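import Groth.Agent.BigCell29.Torus
import Groth.Agent.GrpSchLib.BCPoints

/-!
# Extension of scalars of a split torus in an affine group
-/

set_option autoImplicit false
set_option synthInstance.maxHeartbeats 100000

universe u

open TensorProduct WithConv
open scoped AddMonoidAlgebra

namespace Groth.Agent.SplitBase30

open BigCell29 GrpSchLib.AffineHopf

variable {R : Type u} [CommRing R] {A : Type u} [CommRing A] [HopfAlgebra R A]
  (R' : Type u) [CommRing R'] [Algebra R R']
  {B C : Type u} [CommRing B] [Algebra R B] [Algebra R' B] [IsScalarTower R R' B]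
  [CommRing C] [Algebra R C] [Algebra R' C] [IsScalarTower R R' C]

/-- A point with values in an algebra over the new base, as a point of the extension. -/
noncomputable def ext (g : Pt R A B) : Pt R' (R' ⊗[R] A) B := toConv (extendScalars g.ofConv)

/-- A point of the extension as a point of the group over the old base. -/
noncomputable def res (g : Pt R' (R' ⊗[R] A) B) : Pt R A B :=
  toConv ((g.ofConv.restrictScalars R).comp Algebra.TensorProduct.includeRight)

theorem res_apply (g : Pt R' (R' ⊗[R] A) B) (a : A) : res R' g a = g ((1 : R') ⊗ₜ[R] a) := rfl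

theorem res_ext (g : Pt R A B) : res R' (ext R' g) = g := pt_ext fun a => by
  show extendScalars g.ofConv ((1 : R') ⊗ₜ[R] a) = g a
  rw [extendScalars_tmul, one_smul]

theorem ext_res (g : Pt R' (R' ⊗[R] A) B) : ext R' (res R' g) = g := pt_ext fun x => by
  induction x using TensorProduct.induction_on with
  | zero => simp
  | add x y hx hy => simp only [map_add, hx, hy]
  | tmul s a =>
    show extendScalars (res R' g).ofConv (s ⊗ₜ[R] a) = _
    rw [extendScalars_tmul, res_apply, ← map_smul, TensorProduct.smul_tmul', smul_eq_mul, mul_one]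

theorem res_bijective : Function.Bijective (res R' : Pt R' (R' ⊗[R] A) B → Pt R A B) :=
  ⟨fun g h e => by rw [← ext_res R' g, e, ext_res], fun g => ⟨ext R' g, res_ext R' g⟩⟩

theorem ext_mul (g h : Pt R A B) : ext R' (g * h) = ext R' g * ext R' h :=
  WithConv.ext (extendScalars_mul g h).symm

theorem ext_one : ext R' (1 : Pt R A B) = 1 := by
  have h := ext_mul R' (1 : Pt R A B) (1 : Pt R A B)
  rw [mul_one] at h
  exact mul_eq_left.mp h.symm

theorem res_mul (g h : Pt R' (R' ⊗[R] A) B) : res R' (g * h) = res R' g * res R' h := by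
  conv_lhs => rw [← ext_res R' g, ← ext_res R' h, ← ext_mul, res_ext]

theorem res_one : res R' (1 : Pt R' (R' ⊗[R] A) B) = 1 := by rw [← ext_one R', res_ext]

theorem res_inv (g : Pt R' (R' ⊗[R] A) B) : res R' g⁻¹ = (res R' g)⁻¹ :=
  eq_inv_of_mul_eq_one_left (by rw [← res_mul, inv_mul_cancel, res_one])

theorem res_mapPt (f : B →ₐ[R'] C) (g : Pt R' (R' ⊗[R] A) B) :
    res R' (mapPt f g) = mapPt (f.restrictScalars R) (res R' g) := pt_ext fun _ => rfl

theorem mapPt_ext (f : B →ₐ[R'] C) (g : Pt R A B) : mapPt f (ext R' g) = ext R' (mapPt (f.restrictScalars R) g) :=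
  (res_bijective R').injective (by rw [res_mapPt, res_ext, res_ext])

variable {M : Type} [AddCommGroup M]

/-- The comorphism of the extended torus. -/
noncomputable def bcPi (T : SplitTorus R A M) : R' ⊗[R] A →ₐ[R'] R'[M] :=
  (ext R' (T.tor (univChar R' M))).ofConv

theorem torPt_bcPi (T : SplitTorus R A M) (χ : Multiplicative M →* B) :
    torPt (bcPi R' T) χ = ext R' (T.tor χ) := by
  have e : torPt (bcPi R' T) χ = mapPt (AddMonoidAlgebra.lift R' B M χ) (ext R' (T.tor (univChar R' M))) := rfl
  rw [e, mapPt_ext, T.mapPt_tor]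
  congr 2
  ext m
  simp

/-- The torus after extension of scalars. -/
noncomputable def bcTorus (T : SplitTorus R A M) : SplitTorus R' (R' ⊗[R] A) M where
  π := bcPi R' T
  tor_mul B _ _ χ χ' := by
    let : Algebra R B := ((algebraMap R' B).comp (algebraMap R R')).toAlgebra
    haveI : IsScalarTower R R' B := .of_algebraMap_eq fun _ => rfl
    rw [torPt_bcPi, torPt_bcPi, torPt_bcPi, map_mul, ext_mul]

theorem res_tor (T : SplitTorus R A M) (χ : Multiplicative M →* B) :
    res R' ((bcTorus R' T).tor χ) = T.tor χ := by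
  show res R' (torPt (bcPi R' T) χ) = _
  rw [torPt_bcPi, res_ext]

theorem surjective_bcPi (T : SplitTorus R A M) (hπ : Function.Surjective T.π) :
    Function.Surjective (bcTorus R' T).π := by
  intro x
  induction x using AddMonoidAlgebra.induction_linear with
  | zero => exact ⟨0, map_zero _⟩
  | add x y hx hy =>
    obtain ⟨a, rfl⟩ := hx
    obtain ⟨b, rfl⟩ := hy
    exact ⟨a + b, map_add _ _ _⟩
  | single m r =>
    obtain ⟨a, ha⟩ := hπ (AddMonoidAlgebra.single m 1)
    refine ⟨r ⊗ₜ[R] a, ?_⟩
    show extendScalars (T.tor (univChar R' M)).ofConv (r ⊗ₜ[R] a) = _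
    rw [extendScalars_tmul]
    show r • (AddMonoidAlgebra.lift R R'[M] M (univChar R' M) (T.π a)) = _
    rw [ha]
    simp

theorem bcTorus_p (T : SplitTorus R A M) (m : M) (a : A) :
    (bcTorus R' T).coact.p m ((1 : R') ⊗ₜ[R] a) = (1 : R') ⊗ₜ[R] T.coact.p m a := by
  let g : Pt R' (R' ⊗[R] A) (R' ⊗[R] A) := toConv (AlgHom.id R' (R' ⊗[R] A))
  have key : res R' ((bcTorus R' T).coact.act g) = T.coact.act (res R' g) := by
    rw [SplitTorus.act_eq, SplitTorus.act_eq, res_mul, res_mul, res_inv, res_tor, res_mapPt]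
    rfl
  have h := congrArg (fun q : Pt R A (R' ⊗[R] A)[M] => (q a).coeff m) key
  simp only [res_apply, Coact.act_coeff] at h
  exact h

theorem counit_one_tmul (a : A) :
    Coalgebra.counit (R := R') ((1 : R') ⊗ₜ[R] a) = algebraMap R R' (Coalgebra.counit (R := R) a) := by
  rw [TensorProduct.counit_tmul, CommSemiring.counit_apply, Algebra.smul_def, mul_one]

end Groth.Agent.SplitBase30
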