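import Groth.Agent.BigCell29.LiftU
import Groth.Agent.BigCell29.Frame
import Mathlib.Algebra.TrivSqZeroExt.Basic
import Mathlib.LinearAlgebra.Matrix.NonsingularInverse

/-!
# Homogeneous coordinates on the cotangent space at the identity
-/

set_option autoImplicit false
set_option synthInstance.maxHeartbeats 100000

universe u

open TensorProduct WithConv
open scoped AddMonoidAlgebra

namespace Groth.Agent.SplitBase30

open BigCell29

variable {R : Type u} [CommRing R] {A : Type u} [CommRing A] [HopfAlgebra R A]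
  {M : Type} [AddCommGroup M] (D : Coact R A M)

/-- A derivation at the identity with values in an algebra. -/
def IsDer {k : Type u} [CommRing k] [Algebra R k] (d : A →ₗ[R] k) : Prop :=
  ∀ a b, d (a * b) = algebraMap R k (Coalgebra.counit a) * d b + algebraMap R k (Coalgebra.counit b) * d a

section Der

variable {k : Type u} [CommRing k] [Algebra R k] {d : A →ₗ[R] k}

theorem IsDer.isTan (h : IsDer d) : IsTan (⊤ : Ideal k) d := ⟨fun _ => Submodule.mem_top, fun a b => h a b⟩

theorem IsDer.map_one (h : IsDer d) : d 1 = 0 := h.isTan.map_one'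

theorem IsDer.comp_p (h : IsDer d) (m : M) : IsDer (d ∘ₗ D.p m) := (h.isTan.comp_p D m).leibniz

theorem IsDer.eq_zero_of_sq (h : IsDer d) {x : A} (hx : x ∈ aug R A ^ 2) : d x = 0 := by
  rw [pow_two] at hx
  refine Submodule.mul_induction_on hx (fun u hu v hv => ?_) fun u v hu hv => by rw [map_add, hu, hv, add_zero]
  rw [h, mem_aug.mp hu, mem_aug.mp hv]
  simp

/-- The composite of a derivation with a map of algebras. -/
theorem IsDer.comp_algHom (h : IsDer d) {k' : Type u} [CommRing k'] [Algebra R k'] (f : k →ₐ[R] k') :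
    IsDer (f.toLinearMap ∘ₗ d) := fun a b => by
  show f (d (a * b)) = _
  rw [h a b, map_add, map_mul, map_mul, f.commutes, f.commutes]
  rfl

end Der

theorem p_mem_aug {m : M} {a : A} (ha : a ∈ aug R A) : D.p m a ∈ aug R A := by
  classical
  rw [mem_aug, D.counit_p, mem_aug.mp ha]
  simp

theorem p_mem_sq {m : M} {a : A} (ha : a ∈ aug R A ^ 2) : D.p m a ∈ aug R A ^ 2 := by
  classical
  rw [pow_two] at ha ⊢
  refine Submodule.mul_induction_on ha (fun u hu v hv => ?_) fun u v hu hv => by rw [map_add]; exact add_mem hu hv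
  rw [D.p_mul]
  exact sum_mem fun i _ => Ideal.mul_mem_mul (p_mem_aug D hu) (p_mem_aug D hv)

theorem smul_mem_sq {a : A} (r : R) (ha : a ∈ aug R A ^ 2) : r • a ∈ aug R A ^ 2 := by
  rw [Algebra.smul_def]
  exact Ideal.mul_mem_left _ _ ha

/-- Homogeneous elements of the augmentation ideal with dual derivations. -/
structure Coords where
  /-- the number of elements -/
  N : ℕ
  /-- the elements -/
  x : Fin N → A
  /-- their degrees -/
  deg : Fin N → M
  /-- the derivations -/
  s : Fin N → (A →ₗ[R] R)
  mem : ∀ i, x i ∈ aug R A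
  hom : ∀ i, D.p (deg i) (x i) = x i
  der : ∀ i, IsDer (s i)
  expand : ∀ a ∈ aug R A, a - ∑ i, s i a • x i ∈ aug R A ^ 2

/-- The augmentation ideal of a finite type algebra has finitely many homogeneous generators. -/
theorem exists_homogeneous_generators [Algebra.FiniteType R A] :
    ∃ (N : ℕ) (x : Fin N → A) (deg : Fin N → M), (∀ i, x i ∈ aug R A) ∧ (∀ i, D.p (deg i) (x i) = x i) ∧
      aug R A ≤ Ideal.span (Set.range x) := by
  classical
  obtain ⟨S, hS⟩ := Algebra.FiniteType.out (R := R) (A := A)
  let P := (S.sigma fun a => insert (0 : M) (D.c a).coeff.support)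
  let g : A → M → A := fun a m => D.p m a - algebraMap R A (Coalgebra.counit (R := R) (D.p m a))
  let e := P.equivFin
  refine ⟨P.card, fun i => g (e.symm i).1.1 (e.symm i).1.2, fun i => (e.symm i).1.2, fun i => ?_, fun i => ?_, ?_⟩
  · simp only [g, mem_aug, map_sub, Bialgebra.counit_algebraMap, sub_self]
  · simp only [g]
    set a := (e.symm i).1.1
    set m := (e.symm i).1.2
    rw [map_sub, D.p_p_self]
    congr 1
    by_cases hm : m = 0
    · rw [hm, Algebra.algebraMap_eq_smul_one, map_smul, D.p_one_zero]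
    · rw [D.counit_p_ne hm, map_zero, map_zero]
  · have hI : ∀ a : A, a - algebraMap R A (Coalgebra.counit (R := R) a) ∈
        Ideal.span (Set.range fun i => g (e.symm i).1.1 (e.symm i).1.2) := by
      set I := Ideal.span (Set.range fun i => g (e.symm i).1.1 (e.symm i).1.2)
      let G : Subalgebra R A :=
        { carrier := {a | a - algebraMap R A (Coalgebra.counit (R := R) a) ∈ I}
          mul_mem' := fun {a b} ha hb => by
            show a * b - _ ∈ I
            rw [Bialgebra.counit_mul, map_mul, show a * b - algebraMap R A (Coalgebra.counit (R := R) a) *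
                algebraMap R A (Coalgebra.counit (R := R) b) = (a - algebraMap R A (Coalgebra.counit (R := R) a)) * b +
              algebraMap R A (Coalgebra.counit (R := R) a) * (b - algebraMap R A (Coalgebra.counit (R := R) b)) by ring]
            exact add_mem (Ideal.mul_mem_right _ _ ha) (Ideal.mul_mem_left _ _ hb)
          add_mem' := fun {a b} ha hb => by
            show a + b - _ ∈ I
            rw [map_add, map_add, add_sub_add_comm]
            exact add_mem ha hb
          algebraMap_mem' := fun r => by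
            show algebraMap R A r - _ ∈ I
            rw [Bialgebra.counit_algebraMap, sub_self]
            exact zero_mem _ }
      suffices hle : Algebra.adjoin R (↑S : Set A) ≤ G by
        intro a
        exact hle (hS.symm ▸ Algebra.mem_top : a ∈ Algebra.adjoin R (↑S : Set A))
      refine Algebra.adjoin_le fun a ha => ?_
      show a - _ ∈ I
      have hsum := D.sum_p_subset a (Finset.subset_insert (0 : M) (D.c a).coeff.support)
      have hε : Coalgebra.counit (R := R) a =
          ∑ m ∈ insert (0 : M) (D.c a).coeff.support, Coalgebra.counit (R := R) (D.p m a) := by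
        rw [← map_sum, hsum]
      nth_rewrite 1 [← hsum]
      rw [hε, map_sum, ← Finset.sum_sub_distrib]
      refine sum_mem fun m hm => Ideal.subset_span ⟨e ⟨⟨a, m⟩, Finset.mem_sigma.mpr ⟨ha, hm⟩⟩, ?_⟩
      simp [g]
    intro a ha
    have := hI a
    rwa [mem_aug.mp ha, map_zero, sub_zero] at this

theorem exists_coords [Algebra.FormallySmooth R A] [Algebra.FiniteType R A] : Nonempty (Coords D) := by
  classical
  obtain ⟨N, x, deg, hmem, hhom, hspan⟩ := exists_homogeneous_generators D
  let Q := A ⧸ aug R A ^ 2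
  let mkQ : A →ₐ[R] Q := Ideal.Quotient.mkₐ R (aug R A ^ 2)
  let εQ : Q →ₐ[R] R := Ideal.Quotient.liftₐ _ (Bialgebra.counitAlgHom R A) fun a ha =>
    mem_aug.mp (Ideal.pow_le_self two_ne_zero ha)
  have hεQ : ∀ a, εQ (mkQ a) = Coalgebra.counit (R := R) a := fun a => rfl
  let l : (Fin N → R) →ₗ[R] Q := ∑ i, (LinearMap.proj (R := R) (φ := fun _ : Fin N => R) i).smulRight (mkQ (x i))
  have hl : ∀ f, l f = ∑ i, f i • mkQ (x i) := fun f => by simp [l]
  have hl' : ∀ f, l f = mkQ (∑ i, f i • x i) := fun f => by simp [hl, map_sum, map_smul]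
  have hlaug : ∀ f : Fin N → R, ∑ i, f i • x i ∈ aug R A := fun f =>
    sum_mem fun i _ => by rw [Algebra.smul_def]; exact Ideal.mul_mem_left _ _ (hmem i)
  have hlmul : ∀ f g, l f * l g = 0 := fun f g => by
    rw [hl', hl', ← map_mul]
    refine Ideal.Quotient.eq_zero_iff_mem.mpr ?_
    rw [pow_two]
    exact Ideal.mul_mem_mul (hlaug f) (hlaug g)
  let φ : TrivSqZeroExt R (Fin N → R) →ₐ[R] Q := TrivSqZeroExt.liftEquivOfComm ⟨l, hlmul⟩
  have hφ : ∀ y, φ y = algebraMap R Q y.fst + l y.snd := fun y => by
    simp [φ, TrivSqZeroExt.liftEquivOfComm, TrivSqZeroExt.lift_def]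
  have hφfst : ∀ y, εQ (φ y) = y.fst := fun y => by
    rw [hφ, map_add, AlgHom.commutes, hl', hεQ, mem_aug.mp (hlaug _)]
    simp
  have hsurj : Function.Surjective φ := fun q => by
    obtain ⟨a, rfl⟩ : ∃ a, mkQ a = q := Ideal.Quotient.mk_surjective q
    set a' := a - algebraMap R A (Coalgebra.counit (R := R) a)
    have ha' : a' ∈ aug R A := by simp only [a', mem_aug, map_sub, Bialgebra.counit_algebraMap, sub_self]
    obtain ⟨c, hc⟩ := (Submodule.mem_span_range_iff_exists_fun A).mp (hspan ha')
    refine ⟨TrivSqZeroExt.inl (Coalgebra.counit (R := R) a) +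
      TrivSqZeroExt.inr fun i => Coalgebra.counit (R := R) (c i), ?_⟩
    rw [hφ, hl', TrivSqZeroExt.fst_add, TrivSqZeroExt.snd_add]
    simp only [TrivSqZeroExt.fst_inl, TrivSqZeroExt.fst_inr, TrivSqZeroExt.snd_inl, TrivSqZeroExt.snd_inr, add_zero,
      zero_add]
    rw [← mkQ.commutes, ← map_add]
    refine Ideal.Quotient.eq.mpr ?_
    rw [show algebraMap R A (Coalgebra.counit (R := R) a) + (∑ i, Coalgebra.counit (R := R) (c i) • x i) - a =
      ∑ i, (algebraMap R A (Coalgebra.counit (R := R) (c i)) - c i) * x i by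
        simp only [smul_eq_mul] at hc
        simp only [Algebra.smul_def, sub_mul, Finset.sum_sub_distrib, hc, a']
        ring]
    rw [pow_two]
    exact sum_mem fun i _ => Ideal.mul_mem_mul (by simp [mem_aug]) (hmem i)
  have hsq : SqZero φ := fun y z hy hz => by
    have hy0 : y.fst = 0 := by rw [← hφfst, hy, map_zero]
    have hz0 : z.fst = 0 := by rw [← hφfst, hz, map_zero]
    exact TrivSqZeroExt.ext (by simp [hy0]) (by simp [hy0, hz0])
  obtain ⟨σ, hσ⟩ := exists_lift hsq hsurj (toConv mkQ)
  have hσ' : ∀ a, φ (σ a) = mkQ a := fun a => DFunLike.congr_fun (congrArg WithConv.ofConv hσ) a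
  have hfst : ∀ a, (σ a).fst = Coalgebra.counit (R := R) a := fun a => by rw [← hφfst, hσ', hεQ]
  let s : Fin N → A →ₗ[R] R := fun i =>
    { toFun := fun a => (σ a).snd i
      map_add' := fun a b => by simp
      map_smul' := fun r a => by simp }
  refine ⟨⟨N, x, deg, s, hmem, hhom, fun i a b => ?_, fun a ha => ?_⟩⟩
  · show (σ (a * b)).snd i = _
    rw [map_mul, TrivSqZeroExt.snd_mul, hfst, hfst]
    simp [s, smul_eq_mul, mul_comm]
  · refine Ideal.Quotient.eq.mp ?_
    show mkQ a = mkQ _
    rw [← hσ', hφ, hfst, mem_aug.mp ha, map_zero, zero_add, hl']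
    rfl

variable {D} (c : Coords D)

theorem Coords.expand_deg {m : M} {a : A} (ha : a ∈ aug R A) [DecidableEq M] :
    D.p m a - ∑ i with c.deg i = m, c.s i a • c.x i ∈ aug R A ^ 2 := by
  have h := p_mem_sq D (m := m) (c.expand a ha)
  rw [map_sub, map_sum] at h
  convert h using 2
  rw [Finset.sum_filter]
  refine Finset.sum_congr rfl fun i _ => ?_
  rw [map_smul]
  split_ifs with hi
  · rw [← hi, c.hom]
  · rw [← c.hom i, D.p_p_ne hi, smul_zero]

/-- Elements congruent, up to a factor outside a prime, to a combination of themselves with coefficients in the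
prime die away from it. -/
theorem exists_smul_mem_sq {ι : Type*} [Fintype ι] {p : Ideal R} [hp : p.IsPrime] {u : R} (hu : u ∉ p) (y : ι → A)
    (E : ι → ι → R) (hE : ∀ i j, E i j ∈ p) (h : ∀ i, u • y i - ∑ j, E i j • y j ∈ aug R A ^ 2) :
    ∃ r ∉ p, ∀ i, r • y i ∈ aug R A ^ 2 := by
  classical
  let K : Matrix ι ι R := u • 1 - Matrix.of E
  refine ⟨K.det, fun hdet => ?_, fun i => ?_⟩
  · have h1 : (Ideal.Quotient.mk p) K.det = Ideal.Quotient.mk p u ^ Fintype.card ι := by
      rw [RingHom.map_det]
      have : (Ideal.Quotient.mk p).mapMatrix K = Ideal.Quotient.mk p u • 1 := by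
        ext a b
        simp [K, Matrix.one_apply, Ideal.Quotient.eq_zero_iff_mem.mpr (hE a b), apply_ite (Ideal.Quotient.mk p)]
      rw [this, Matrix.det_smul, Matrix.det_one, mul_one]
    rw [Ideal.Quotient.eq_zero_iff_mem.mpr hdet, eq_comm, ← map_pow, Ideal.Quotient.eq_zero_iff_mem] at h1
    exact hu (hp.mem_of_pow_mem _ h1)
  · have hz : ∀ l, ∑ j, K l j • y j ∈ aug R A ^ 2 := fun l => by
      convert h l using 1
      simp [K, Matrix.one_apply, sub_smul, Finset.sum_sub_distrib, ite_smul]
    have e : K.det • y i = ∑ l, K.adjugate i l • ∑ j, K l j • y j := by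
      simp only [Finset.smul_sum, smul_smul]
      rw [Finset.sum_comm]
      simp only [← Finset.sum_smul, ← Matrix.mul_apply, Matrix.adjugate_mul]
      simp [Matrix.one_apply, ite_smul]
    rw [e]
    exact sum_mem fun l _ => smul_mem_sq _ (hz l)

end Groth.Agent.SplitBase30
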