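import Groth.Agent.SplitBase30.Torus
import Groth.Agent.SplitBase30.Coords
import Groth.Agent.BigCell29.Bridge
import Groth.Agent.MaxTorusLib.Basic

/-!
# The weights of a geometric fibre, as derivations of the group over the base
-/

set_option autoImplicit false
set_option linter.style.haveILetI false
set_option synthInstance.maxHeartbeats 100000

universe u

open CategoryTheory CategoryTheory.Limits MonoidalCategory CartesianMonoidalCategory AlgebraicGeometry WithConv
open TensorProduct
open scoped MonObj AddMonoidAlgebra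

namespace Groth.Agent.SplitBase30

open BigCell29 DSPtsLib GrpSchLib.AffineHopf

variable {R : Type u} [CommRing R]
  {G T : Over (Spec (CommRingCat.of R))} [GrpObj G] [GrpObj T] {M : Type} [AddCommGroup M]
  {A : Type u} [CommRing A] [HopfAlgebra R A] (Md : Model (𝟙 (Spec (CommRingCat.of R))) G A)

/-- The structure map of the field. -/
noncomputable abbrev kMap (R k : Type u) [CommRing R] [CommRing k] [Algebra R k] :
    Spec (CommRingCat.of k) ⟶ Spec (CommRingCat.of R) :=
  Spec.map (CommRingCat.ofHom (algebraMap R k))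

section Points

variable {k : Type u} [CommRing k] [Algebra R k] {A' : Type u} [CommRing A'] [HopfAlgebra k A']
  (Md' : Model (𝟙 (Spec (CommRingCat.of k))) (Red.bc (kMap R k) G) A')
  {B C : Type u} [CommRing B] [Algebra R B] [Algebra k B] [IsScalarTower R k B]
  [CommRing C] [Algebra R C] [Algebra k C] [IsScalarTower R k C]

/-- The point of the extension of scalars of a point of a model of the fibre. -/
noncomputable def rPt (q : Pt k A' B) : Pt k (k ⊗[R] A) B :=
  ext k (Md.ofPt ((cIso R B k).hom ≫ theta (kMap R k) (Md'.pt q)))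

theorem pt_res_rPt (q : Pt k A' B) :
    Md.pt (res k (rPt Md Md' q)) = (cIso R B k).hom ≫ theta (kMap R k) (Md'.pt q) := by
  rw [rPt, res_ext, Md.pt_ofPt]

theorem rPt_bijective : Function.Bijective (rPt Md Md' : Pt k A' B → Pt k (k ⊗[R] A) B) := by
  refine ⟨fun q q' h => ?_, fun x => ?_⟩
  · have h' := congrArg (fun z => Md.pt (res k z)) h
    simp only [pt_res_rPt] at h'
    exact Md'.pt_bijective.injective ((theta_bijective _).injective ((cancel_epi _).mp h'))
  · obtain ⟨y, hy⟩ := (theta_bijective (kMap R k)).surjective ((cIso R B k).inv ≫ Md.pt (res k x))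
    obtain ⟨q, rfl⟩ := Md'.pt_bijective.surjective y
    refine ⟨q, (res_bijective k).injective (Md.pt_bijective.injective ?_)⟩
    rw [pt_res_rPt, hy, Iso.hom_inv_id_assoc]

theorem rPt_mul (q q' : Pt k A' B) : rPt Md Md' (q * q') = rPt Md Md' q * rPt Md Md' q' := by
  apply (res_bijective k).injective
  apply Md.pt_bijective.injective
  rw [res_mul, Md.pt_mul, pt_res_rPt, pt_res_rPt, pt_res_rPt, Md'.pt_mul, theta_mul, MonObj.comp_mul]

theorem rPt_map (φ : B →ₐ[k] C) (q : Pt k A' B) : rPt Md Md' (mapPt φ q) = mapPt φ (rPt Md Md' q) := by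
  apply (res_bijective k).injective
  apply Md.pt_bijective.injective
  rw [res_mapPt, pt_res_rPt, Md.pt_map, pt_res_rPt, Md'.pt_map, theta_comp, ← Category.assoc, ← cIso_natural,
    Category.assoc]

theorem exists_comorphism :
    ∃ ψ : k ⊗[R] A →ₐ[k] A', Function.Surjective ψ ∧
      ∀ (B : Type u) [CommRing B] [Algebra R B] [Algebra k B] [IsScalarTower R k B] (q : Pt k A' B),
        rPt Md Md' q = toConv (q.ofConv.comp ψ) := by
  letI : Algebra R A' := Algebra.compHom A' (algebraMap R k)
  haveI : IsScalarTower R k A' := .of_algebraMap_eq fun _ => rfl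
  let u : Pt k (k ⊗[R] A) A' := rPt Md Md' (toConv (AlgHom.id k A'))
  have hu : ∀ (B : Type u) [CommRing B] [Algebra R B] [Algebra k B] [IsScalarTower R k B] (q : Pt k A' B),
      rPt Md Md' q = toConv (q.ofConv.comp u.ofConv) := fun B _ _ _ _ q => by
    have e : q = mapPt q.ofConv (toConv (AlgHom.id k A')) := pt_ext fun _ => rfl
    conv_lhs => rw [e, rPt_map]
    rfl
  refine ⟨u.ofConv, fun y => ?_, hu⟩
  obtain ⟨q, hq⟩ := (rPt_bijective (B := k ⊗[R] A) Md Md').surjective (toConv (AlgHom.id k (k ⊗[R] A)))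
  have h1 : q.ofConv.comp u.ofConv = AlgHom.id k _ := congrArg WithConv.ofConv ((hu _ q).symm.trans hq)
  have h2 : toConv (u.ofConv.comp q.ofConv) = (toConv (AlgHom.id k A') : Pt k A' A') := by
    apply (rPt_bijective Md Md').injective
    rw [hu, hu]
    refine WithConv.ext ?_
    show (u.ofConv.comp q.ofConv).comp u.ofConv = (AlgHom.id k A').comp u.ofConv
    rw [AlgHom.comp_assoc, h1, AlgHom.comp_id, AlgHom.id_comp]
  exact ⟨q y, DFunLike.congr_fun (congrArg WithConv.ofConv h2) y⟩

end Points

variable {k : Type u} [Field k] [Algebra R k]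

include Md in
theorem ringKrullDim_fibre :
    ringKrullDim (k ⊗[R] A) = topologicalKrullDim ↥(Red.bc (kMap R k) G).left := by
  have sq : IsPullback ((pullbackSpecIso R k A).inv ≫ pullback.snd _ _ ≫ Md.toG)
      (Spec.map (CommRingCat.ofHom (Algebra.TensorProduct.includeLeftRingHom : k →+* k ⊗[R] A)))
      G.hom (kMap R k) := by
    have h0 := (IsPullback.of_hasPullback (Spec.map (CommRingCat.ofHom (algebraMap R k)))
      (Spec.map (CommRingCat.ofHom (algebraMap R A)))).flip
    have h1 := h0.paste_horiz Md.isPullback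
    rw [Category.comp_id] at h1
    refine IsPullback.of_iso h1 ((pullbackSpecIso R k A)) (Iso.refl _) (Iso.refl _) (Iso.refl _) ?_ ?_ (by simp)
      (by simp)
    · simp
    · simp [pullbackSpecIso_hom_fst]
  let eiso : Spec (CommRingCat.of (k ⊗[R] A)) ≅ (Red.bc (kMap R k) G).left := sq.isoPullback
  rw [← PrimeSpectrum.topologicalKrullDim_eq_ringKrullDim]
  exact (Scheme.homeoOfIso eiso).isHomeomorph.topologicalKrullDim_eq

variable [IsAlgClosed k] (hG : Smooth G.hom) (i : T ⟶ G) [IsMonHom i] [Mono i]
  (split : Grp.mk T ≅ Grp.mk (Red.DS (Spec (CommRingCat.of R)) M))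
  (D : Red.SplitRed (Red.bc (kMap R k) G)) (θ : D.M ≃+ M)
  (htor : ∀ (B : Type u) [CommRing B] [Algebra k B] (χ : Multiplicative M →* B),
    torG (f := 𝟙 (Spec (CommRingCat.of k))) D (χ.comp θ.toAddMonoidHom.toMultiplicative) =
      torP ((Over.pullback (kMap R k)).map i) (bcTS split (kMap R k)) χ)

include hG Md D htor in
/-- The roots of a geometric fibre are the weights of the derivations with values in its field. -/
theorem exists_frame : ∃ F : Frame k (k ⊗[R] A) M D.idx,
    F.T = bcTorus k (splitTorus i split Md) ∧ ∀ j, F.root j = θ (D.P.root j) := by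
  haveI : IsAffineHom (Red.bc (kMap R k) G).hom := D.reductive.1
  obtain ⟨A', _, _, ⟨Md'⟩⟩ := exists_model (𝟙 (Spec (CommRingCat.of k))) (Red.bc (kMap R k) G)
  obtain ⟨ψ, hψ, hψq⟩ := exists_comorphism Md Md'
  let F' := Md'.frame D
  let Tor := bcTorus k (splitTorus i split Md)
  have htor' : ∀ (B : Type u) [CommRing B] [Algebra R B] [Algebra k B] [IsScalarTower R k B]
      (χ : Multiplicative M →* B),
      rPt Md Md' (F'.T.tor (χ.comp θ.toAddMonoidHom.toMultiplicative)) = Tor.tor χ := fun B _ _ _ _ χ => by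
    apply (res_bijective k).injective
    apply Md.pt_bijective.injective
    rw [pt_res_rPt, Md'.pt_tor, htor, theta_torP, res_tor, pt_splitTorus]
  let φ : D.idx → (k ⊗[R] A →ₐ[k] Polynomial k) := fun j => (F'.φ j).comp ψ
  have hline : ∀ (B : Type u) [CommRing B] [Algebra R B] [Algebra k B] [IsScalarTower R k B] (j : D.idx) (x : B),
      rPt Md Md' (F'.rt j x) = linePt (φ j) x := fun B _ _ _ _ j x => (hψq B _).trans rfl
  let P : PreFrame k (k ⊗[R] A) M D.idx :=
    { T := Tor
      root := fun j => θ (D.P.root j)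
      φ := φ
      root_inj := θ.injective.comp D.P.root.injective
      π_surj := surjective_bcPi k _ (surjective_splitTorus i split Md)
      φ_surj := fun j => (F'.φ_surj j).comp hψ
      rt_add := fun B _ _ j x y => by
        letI : Algebra R B := Algebra.compHom B (algebraMap R k)
        haveI : IsScalarTower R k B := .of_algebraMap_eq fun _ => rfl
        rw [← hline, ← hline, ← hline, ← rPt_mul]
        exact congrArg _ (F'.rt_add B j x y)
      conj := fun B _ _ j χ x => by
        letI : Algebra R B := Algebra.compHom B (algebraMap R k)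
        haveI : IsScalarTower R k B := .of_algebraMap_eq fun _ => rfl
        rw [← htor', ← hline, ← hline, ← rPt_mul, ← rPt_mul]
        exact congrArg _ (F'.conj B j (χ.comp θ.toAddMonoidHom.toMultiplicative) x) }
  haveI := Md.smooth hG
  haveI : Algebra.FinitePresentation R A := Algebra.Smooth.finitePresentation
  refine ⟨{ toPreFrame := P, cot := fun a h0 hT hu => ?_ }, rfl, fun j => rfl⟩
  haveI : Module.Finite ℤ M := Module.Finite.equiv θ.toIntLinearEquiv
  haveI : Module.Free ℤ M := Module.Free.of_equiv θ.toIntLinearEquiv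
  refine PreFrame.cot_of_dim P (fun j h => D.P.ne_zero j (θ.map_eq_zero_iff.mp h)) (fun p hp => ?_) a h0 hT hu
  refine ⟨k, inferInstance, Algebra.id k, ?_, le_of_eq ?_⟩
  · rw [Algebra.algebraMap_self, (Ideal.eq_bot_or_top p).resolve_right hp.ne_top]
    exact RingHom.injective_iff_ker_eq_bot _ |>.mp Function.injective_id
  · rw [ringKrullDim_eq_of_ringEquiv (Algebra.TensorProduct.lid k (k ⊗[R] A)).toRingEquiv, ringKrullDim_fibre Md,
      ← θ.toIntLinearEquiv.finrank_eq]
    have s : Spec (CommRingCat.of k) := Classical.arbitrary _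
    haveI := MaxTorusLib.isIso_geomPt s
    rw [← D.dim_fibre s]
    exact ((Scheme.homeoOfIso (asIso (pullback.fst (Red.bc (kMap R k) G).hom (Red.geomPt s)))).isHomeomorph.topologicalKrullDim_eq).symm

omit [IsAlgClosed k] in
theorem derivations_of_frame {idx : Type} {T₀ : SplitTorus R A M} (F : Frame k (k ⊗[R] A) M idx)
    (hT : F.T = bcTorus k T₀) :
    (∀ m, m ≠ 0 → m ∉ Set.range F.root → ∀ d : A →ₗ[R] k, IsDer d → ∀ a, d (T₀.coact.p m a) = 0) ∧
      ∀ j, F.root j ≠ 0 → ∃ dα : A →ₗ[R] k, IsDer dα ∧ (∃ a, dα (T₀.coact.p (F.root j) a) ≠ 0) ∧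
        ∀ δ : A →ₗ[R] k, IsDer δ → ∃ c, ∀ a, δ (T₀.coact.p (F.root j) a) = c * dα (T₀.coact.p (F.root j) a) := by
  classical
  have hp : ∀ m a, F.T.coact.p m ((1 : k) ⊗ₜ[R] a) = (1 : k) ⊗ₜ[R] T₀.coact.p m a := fun m a => by
    rw [hT, bcTorus_p]
  let lift : (A →ₗ[R] k) → (k ⊗[R] A →ₗ[k] k) := fun d => LinearMap.liftBaseChange k d
  have hlift : ∀ d a, lift d ((1 : k) ⊗ₜ[R] a) = d a := fun d a => by simp [lift]
  have hder : ∀ d, IsDer d → ∀ z ∈ aug k (k ⊗[R] A) ^ 2, lift d z = 0 := by
    intro d hd z hz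
    refine IsDer.eq_zero_of_sq (R := k) (k := k) (d := lift d) (fun x y => ?_) hz
    induction x using TensorProduct.induction_on with
    | zero => simp
    | add x x' hx hx' => rw [add_mul, map_add, hx, hx']; simp only [map_add]; ring
    | tmul s a =>
      induction y using TensorProduct.induction_on with
      | zero => simp
      | add y y' hy hy' => rw [mul_add, map_add, hy, hy']; simp only [map_add]; ring
      | tmul t b =>
        rw [Algebra.TensorProduct.tmul_mul_tmul]
        simp only [lift, LinearMap.liftBaseChange_tmul, TensorProduct.counit_tmul, CommSemiring.counit_apply,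
          Algebra.algebraMap_self, RingHom.id_apply, hd a b, smul_add, smul_eq_mul, Algebra.smul_def]
        ring
  refine ⟨fun m hm hmr d hd a => ?_, fun j hj => ?_⟩
  · rw [← hlift d (T₀.coact.p m a), ← hp]
    refine hder d hd _ (F.cot' (F.T.coact.counit_p_ne hm _) (fun l => ?_) fun i => ?_)
    · exact F.dT_p_ne hm l _
    · exact F.du_p_ne (fun e => hmr ⟨i, e⟩) _
  let e : A →ₗ[R] k := (F.du j).restrictScalars R ∘ₗ Algebra.TensorProduct.includeRight.toLinearMap
  have he : ∀ a, e a = F.du j ((1 : k) ⊗ₜ[R] a) := fun a => rfl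
  obtain ⟨x, hx⟩ := F.φ_surj j Polynomial.X
  have hx1 : F.du j x = 1 := by rw [F.du_apply, hx, Polynomial.coeff_X_one]
  refine ⟨e, fun a b => ?_, ?_, fun δ hδ => ⟨lift δ (F.T.coact.p (F.root j) x), fun a => ?_⟩⟩
  · have h1 : (1 : k) ⊗ₜ[R] (a * b) = ((1 : k) ⊗ₜ[R] a) * ((1 : k) ⊗ₜ[R] b) := by simp
    have h0 : ∀ z : k ⊗[R] A, (F.φ j z).coeff 0 = Coalgebra.counit (R := k) z := fun z => by
      have h := DFunLike.congr_fun (congrArg WithConv.ofConv (F.rt_zero j (B := k))) z
      rw [PreFrame.rt, linePt_apply, AlgHom.convOne_apply, ← Polynomial.coeff_zero_eq_aeval_zero] at h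
      exact h
    rw [he, he, he, h1, F.du_apply, F.du_apply, F.du_apply, map_mul, Polynomial.coeff_mul,
      Finset.Nat.antidiagonal_succ, Finset.sum_cons, Finset.Nat.antidiagonal_zero]
    simp only [Finset.map_singleton, Finset.sum_singleton, Function.Embedding.coeFn_mk, Prod.map_apply, h0,
      counit_one_tmul]
    simp [h0, counit_one_tmul, Algebra.smul_def]
    ring
  · by_contra! hall
    have hz : ∀ z, F.du j (F.T.coact.p (F.root j) z) = 0 := fun z => by
      induction z using TensorProduct.induction_on with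
      | zero => simp
      | add z z' hz hz' => rw [map_add, map_add, hz, hz', add_zero]
      | tmul s a =>
        rw [show s ⊗ₜ[R] a = s • (1 : k) ⊗ₜ[R] a by rw [TensorProduct.smul_tmul', smul_eq_mul, mul_one], map_smul,
          map_smul, hp, ← he, hall a, smul_zero]
    exact one_ne_zero (hx1.symm.trans ((F.du_p_self j x).symm.trans (hz x)))
  · have hsq : F.T.coact.p (F.root j) ((1 : k) ⊗ₜ[R] a) - F.du j ((1 : k) ⊗ₜ[R] a) • F.T.coact.p (F.root j) x ∈
        aug k (k ⊗[R] A) ^ 2 := by
      refine F.cot' ?_ (fun l => ?_) fun i => ?_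
      · simp [F.T.coact.counit_p_ne hj]
      · simp [F.dT_p_ne hj]
      · by_cases hi : i = j
        · subst hi; simp [F.du_p_self, hx1]
        · simp [F.du_p_ne (fun h => hi (F.root_inj h))]
    have := hder δ hδ _ hsq
    rw [map_sub, map_smul, sub_eq_zero, hp, hlift, smul_eq_mul, ← F.du_p_self, hp, ← he, mul_comm] at this
    exact this

end Groth.Agent.SplitBase30
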