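import Groth.Agent.GrpSchLib.AffineHopf
import Groth.Agent.GrpSchLib.MultTypeBC
import Groth.Agent.ConjEtale19.Split
import Groth.Prelude.Def_SGA3x
import Groth.Agent.SgaFix20.SplitRank
import Groth.Agent.MaxTorusLib.Basic
import Mathlib.RingTheory.Bialgebra.MonoidAlgebra
import Mathlib.RingTheory.Finiteness.Prod

/-!
# A torus is split by an étale neighbourhood with a lattice of characters
-/

set_option autoImplicit false
set_option linter.style.haveILetI false

universe u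

open CategoryTheory CategoryTheory.Limits MonoidalCategory CartesianMonoidalCategory AlgebraicGeometry
open scoped MonObj

namespace Groth.Agent.SplitBase30

open GrpSchLib.AffineHopf

theorem nonempty_addEquiv_of_sp_iso {k : Type u} [Field k] {M N : Type} [AddCommGroup M] [AddCommGroup N]
    (E : Grp.mk (sp k (MonoidAlgebra k (Multiplicative M))) ≅ Grp.mk (sp k (MonoidAlgebra k (Multiplicative N)))) :
    Nonempty (M ≃+ N) := by
  haveI := E.hom.hom.isMonHom_hom
  haveI := E.inv.hom.isMonHom_hom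
  obtain ⟨f, hf⟩ := exists_bialgHom E.hom.hom.hom
  obtain ⟨g, hg⟩ := exists_bialgHom E.inv.hom.hom
  have e1 : E.hom.hom.hom ≫ E.inv.hom.hom = 𝟙 _ := congrArg (fun q => q.hom.hom) E.hom_inv_id
  have e2 : E.inv.hom.hom ≫ E.hom.hom.hom = 𝟙 _ := congrArg (fun q => q.hom.hom) E.inv_hom_id
  rw [hf, hg, spMap_comp, ← spMap_id] at e1 e2
  have fg := spMap_injective e1
  have gf := spMap_injective e2
  have hM : ∀ n : Multiplicative N, ∃ m : Multiplicative M,
      f (MonoidAlgebra.single n 1) = MonoidAlgebra.single m 1 := fun n => by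
    obtain ⟨m, hm⟩ := MonoidAlgebra.isGroupLikeElem_iff_mem_range_single_one.mp
      ((MonoidAlgebra.isGroupLikeElem_single_one n).map f)
    exact ⟨m, hm.symm⟩
  choose φ hφ using hM
  have hN : ∀ m : Multiplicative M, ∃ n : Multiplicative N,
      g (MonoidAlgebra.single m 1) = MonoidAlgebra.single n 1 := fun m => by
    obtain ⟨n, hn⟩ := MonoidAlgebra.isGroupLikeElem_iff_mem_range_single_one.mp
      ((MonoidAlgebra.isGroupLikeElem_single_one m).map g)
    exact ⟨n, hn.symm⟩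
  choose ψ hψ using hN
  have hone : ∀ {G : Type} [CommGroup G] {a b : G},
      (MonoidAlgebra.single a (1 : k) : MonoidAlgebra k G) = MonoidAlgebra.single b 1 → a = b :=
    fun h => (MonoidAlgebra.single_left_inj one_ne_zero).mp h
  have hψφ : ∀ n, ψ (φ n) = n := fun n => by
    refine hone ?_
    rw [← hψ, ← hφ]
    exact AlgHom.congr_fun gf _
  have hφψ : ∀ m, φ (ψ m) = m := fun m => by
    refine hone ?_
    rw [← hφ, ← hψ]
    exact AlgHom.congr_fun fg _
  have hmul : ∀ a b, φ (a * b) = φ a * φ b := fun a b => by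
    refine hone ?_
    rw [← hφ, ← one_mul (1 : k), ← MonoidAlgebra.single_mul_single, ← MonoidAlgebra.single_mul_single, map_mul, hφ, hφ]
  exact ⟨AddEquiv.symm
    { toFun := fun n => (φ (Multiplicative.ofAdd n)).toAdd
      invFun := fun m => (ψ (Multiplicative.ofAdd m)).toAdd
      left_inv := fun n => congrArg Multiplicative.toAdd (hψφ _)
      right_inv := fun m => congrArg Multiplicative.toAdd (hφψ _)
      map_add' := fun a b => congrArg Multiplicative.toAdd (hmul _ _) }⟩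

/-- An étale neighbourhood splitting a torus, with a lattice of characters. -/
theorem exists_etale_split_torus {S : Scheme.{u}} {T : Over S} [GrpObj T] (hT : Red.IsTorus T) (s : S) :
    ∃ (B : CommRingCat.{u}) (b : Spec B ⟶ S) (y : Spec B) (M : Type) (_ : AddCommGroup M),
      Etale b ∧ b.base y = s ∧ Module.Free ℤ M ∧ Module.Finite ℤ M ∧
      Nonempty (Grp.mk (Red.bc b T) ≅ Grp.mk (Red.DS (Spec B) M)) := by
  have hm : SGA3x.IsMultTypeFT T := by
    obtain ⟨S', f, hf, hs, hqc, hloc⟩ := hT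
    exact ⟨S', f, hf, hs, hqc, fun s' => let ⟨U, hU, r, he⟩ := hloc s'
      ⟨U, hU, Fin r → ℤ, inferInstance, inferInstance, he⟩⟩
  obtain ⟨B, b, y, M, _, hb, hy, hfg, ⟨e⟩⟩ := ConjEtale19.exists_etale_split hm s
  obtain ⟨eD⟩ := nonempty_DS_iso B M
  refine ⟨B, b, y, M, inferInstance, hb, hy, ?_, ?_, ⟨e ≪≫ eD⟩⟩
  · -- the geometric fibre of a torus has a lattice of characters
    let g := Red.geomPt y ≫ b
    obtain ⟨S', f, hff, hfs, hqc, hloc⟩ := RedSub30.TorusAbsorb.isTorus_bc g hT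
    haveI := hfs
    obtain ⟨s', -⟩ := f.surjective (Classical.arbitrary _)
    obtain ⟨U, hsU, r, ⟨eU⟩⟩ := hloc s'
    let L := AlgebraicClosure (S'.residueField s')
    let q : Spec (CommRingCat.of L) ⟶ (U : Scheme.{u}) := IsOpenImmersion.lift U.ι (Red.geomPt s') (by
      rintro _ ⟨x, rfl⟩
      rw [Scheme.Opens.range_ι]
      show (_ ≫ S'.fromSpecResidueField s').base x ∈ U
      rw [Scheme.Hom.comp_apply, Scheme.fromSpecResidueField_apply]
      exact hsU)
    obtain ⟨a1⟩ := GrpSchLib.MultTypeBC.bc_iso q eU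
    obtain ⟨a2⟩ := GrpSchLib.MultTypeBC.bc_DS q (Fin r → ℤ)
    obtain ⟨a3⟩ := GrpSchLib.MultTypeBC.bc_bc q (U.ι ≫ f) (Red.bc g T)
    obtain ⟨a4⟩ := GrpSchLib.MultTypeBC.bc_bc (q ≫ U.ι ≫ f) g T
    let h : Spec (CommRingCat.of L) ⟶ Spec B := q ≫ U.ι ≫ f ≫ Red.geomPt y
    obtain ⟨a5⟩ := GrpSchLib.MultTypeBC.bc_congr (show (q ≫ U.ι ≫ f) ≫ g = h ≫ b by simp [g, h]) T
    obtain ⟨a6⟩ := GrpSchLib.MultTypeBC.bc_iso h (e ≪≫ eD)
    obtain ⟨a7⟩ := GrpSchLib.MultTypeBC.bc_DS h M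
    obtain ⟨a8⟩ := GrpSchLib.MultTypeBC.bc_bc h b T
    obtain ⟨d1⟩ := nonempty_DS_iso L (Fin r → ℤ)
    obtain ⟨d2⟩ := nonempty_DS_iso L M
    obtain ⟨φ⟩ := nonempty_addEquiv_of_sp_iso
      (d2 ≪≫ a7.symm ≪≫ a6.symm ≪≫ a8 ≪≫ a5.symm ≪≫ a4.symm ≪≫ a3.symm ≪≫ a1 ≪≫ a2 ≪≫ d1.symm)
    exact Module.Free.of_equiv φ.symm.toIntLinearEquiv
  · exact Module.Finite.iff_addGroup_fg.mpr hfg

end Groth.Agent.SplitBase30
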