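import Groth.Agent.SplitBase30.Split
import Groth.Agent.SplitBase30.Lattice

/-!
# A reductive group is split relative to any maximal torus, étale locally on the base
-/

set_option autoImplicit false
set_option linter.style.haveILetI false
set_option synthInstance.maxHeartbeats 100000

universe u

open CategoryTheory CategoryTheory.Limits MonoidalCategory CartesianMonoidalCategory AlgebraicGeometry
open scoped MonObj

namespace Groth.Agent.SplitBase30

variable {S U V : Scheme.{u}} (g : V ⟶ U) (b : U ⟶ S)

/-- The comparison of an iterated base change of a group with the base change along the composite. -/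
noncomputable def bcComp (X : Over S) [GrpObj X] : Grp.mk (Red.bc g (Red.bc b X)) ≅ Grp.mk (Red.bc (g ≫ b) X) :=
  ((Functor.mapGrpCompIso).symm ≪≫ Functor.mapGrpNatIso (Over.pullbackComp g b).symm).app (Grp.mk X)

theorem bcComp_hom (X : Over S) [GrpObj X] : (bcComp g b X).hom.hom.hom = (Over.pullbackComp g b).inv.app X := by
  show _ ≫ _ = _
  exact Category.id_comp _

theorem bcComp_natural {X Y : Over S} [GrpObj X] [GrpObj Y] (i : X ⟶ Y) :
    (Over.pullback g).map ((Over.pullback b).map i) ≫ (bcComp g b Y).hom.hom.hom =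
      (bcComp g b X).hom.hom.hom ≫ (Over.pullback (g ≫ b)).map i := by
  rw [bcComp_hom, bcComp_hom]
  exact (Over.pullbackComp g b).inv.naturality i

/-- **A reductive group is split relative to a maximal torus on an étale neighbourhood of every point.** -/
theorem exists_split_nhd {G T : Over S} [GrpObj G] [GrpObj T] (hG : Red.IsReductive G) (i : T ⟶ G)
    (hi : Red.IsMaximalTorus i) (s : S) :
    ∃ (W : Scheme.{u}) (f : W ⟶ S) (_ : Etale f), s ∈ Set.range f.base ∧
      ∃ (D : Red.SplitRed (Red.bc f G)) (e : D.T ≅ Red.bc f T), D.i = e.hom ≫ (Over.pullback f).map i := by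
  haveI := hG.1
  haveI := hG.2.1
  obtain ⟨B, b, y, M, _, hb, hy, hfree, hfin, ⟨split⟩⟩ := exists_etale_split_torus hi.2.2.1 s
  haveI := hb
  haveI := hfree
  haveI := hfin
  have hi0 := MaxTorusLib.isMaximalTorus_bc b hi
  haveI := hi0.1
  haveI := hi0.2.1
  obtain ⟨C, _, _, het, ⟨w, hw⟩, D, e, he⟩ :=
    exists_split_affine_nhd (R := B) (isReductive_bc b hG) ((Over.pullback b).map i) hi0 split y
  let g := kMap B C
  haveI : Etale g := het
  refine ⟨_, g ≫ b, inferInstance, ⟨w, by rw [Scheme.Hom.comp_apply]; exact (congrArg _ hw).trans hy⟩,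
    transportSplit D (bcComp g b G) (e ≪≫ bcComp g b T) ((Over.pullback (g ≫ b)).map i) ?_
      (isReductive_bc (g ≫ b) hG) (MaxTorusLib.isMaximalTorus_bc (g ≫ b) hi),
    Iso.refl _, (Category.id_comp _).symm⟩
  rw [he, Category.assoc, bcComp_natural]
  exact (Category.assoc _ _ _).symm

end Groth.Agent.SplitBase30
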