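import Groth.Agent.SplitBase30.Local
import Groth.Agent.RedSub30.TypeRPts
import Mathlib.Algebra.MvPolynomial.Degrees
import Mathlib.RingTheory.Polynomial.Quotient

/-!
# The root homomorphism of a good weight

For a root `α` of a good torus and cocharacters `ν`, `lam` with `ν α = 0 < lam α` separating `α` from the other roots,
the points fixed by `ν` and attracted by `lam` form a line.
-/

set_option autoImplicit false
set_option synthInstance.maxHeartbeats 100000

universe u

open TensorProduct WithConv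
open scoped AddMonoidAlgebra

namespace Groth.Agent.SplitBase30

open BigCell29 RedSub30

section Push

variable {R : Type u} [CommRing R] {A : Type u} [CommRing A] [HopfAlgebra R A]
  {B : Type u} [CommRing B] [Algebra R B] {M : Type} [AddCommGroup M] (D : Coact R A M)

theorem push_p_p [DecidableEq M] (μ : M →+ ℤ) (m : M) (n : ℤ) (a : A) :
    (D.push μ).p n (D.p m a) = if μ m = n then D.p m a else 0 := by
  rw [D.push_p, Finset.sum_filter]
  have h : ∀ k, D.p k (D.p m a) = if m = k then D.p m a else 0 := fun k => D.p_p m k a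
  by_cases hm : m ∈ (D.c (D.p m a)).coeff.support
  · rw [Finset.sum_eq_single m (fun k _ hk => by rw [h, if_neg (Ne.symm hk), ite_self]) (fun h' => absurd hm h'), h,
      if_pos rfl]
  · have h0 : D.p m a = 0 := by rw [← D.p_p_self m a, D.p_eq_zero_of_notMem hm]
    simp [h0]

theorem inZ_push_iff {μ : M →+ ℤ} {g : Pt R A B} :
    (D.push μ).InZ g ↔ ∀ (m : M) (a : A), μ m ≠ 0 → g (D.p m a) = 0 := by
  classical
  refine ⟨fun h m a hm => ?_, fun h a n hn => ?_⟩
  · have := h (D.p m a) (μ m) hm
    rwa [push_p_p, if_pos rfl] at this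
  · rw [Coact.push_p, map_sum]
    exact Finset.sum_eq_zero fun m hm => h m a (by rw [(Finset.mem_filter.mp hm).2]; exact hn)

theorem inU_push_iff {μ : M →+ ℤ} {g : Pt R A B} :
    (D.push μ).InU g ↔ (∀ (m : M) (a : A), μ m < 0 → g (D.p m a) = 0) ∧
      ∀ (m : M) (a : A), μ m = 0 → g (D.p m a) = algebraMap R B (Coalgebra.counit (D.p m a)) := by
  classical
  refine ⟨fun h => ⟨fun m a hm => ?_, fun m a hm => ?_⟩, fun h => ⟨fun a n hn => ?_, fun a => ?_⟩⟩
  · have := h.1 (D.p m a) (μ m) hm
    rwa [push_p_p, if_pos rfl] at this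
  · have := h.2 (D.p m a)
    rwa [push_p_p, if_pos hm, AlgHom.convOne_apply] at this
  · rw [Coact.push_p, map_sum]
    exact Finset.sum_eq_zero fun m hm => h.1 m a (by rw [(Finset.mem_filter.mp hm).2]; exact hn)
  · rw [AlgHom.convOne_apply, ← (D.push μ).counit_p_zero, Coact.push_p, map_sum, map_sum, map_sum]
    exact Finset.sum_congr rfl fun m hm => h.2 m a (Finset.mem_filter.mp hm).2

/-- The whole group as a smooth subgroup. -/
noncomputable def topSub (R A : Type u) [CommRing R] [CommRing A] [HopfAlgebra R A] [Algebra.FormallySmooth R A] :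
    SmSub R A where
  mem _ _ _ := ⊤
  map_mem _ _ _ := trivial
  of_ann _ _ _ _ _ := trivial
  lift φ hφ hs g _ := by
    obtain ⟨g', hg'⟩ := exists_lift hφ hs g
    exact ⟨g', trivial, hg'⟩
  mem_nonneg _ _ _ := trivial

theorem topSub_stable [Algebra.FormallySmooth R A] : (topSub R A).Stable D := fun _ _ _ _ _ => trivial

theorem stable_fix_top [Algebra.FormallySmooth R A] (ν lam : M →+ ℤ) :
    ((topSub R A).fix (D.push ν) (topSub_stable _)).Stable (D.push lam) := fun B _ _ g hg => by
  refine ⟨trivial, (inZ_push_iff D).mpr fun m a hm => AddMonoidAlgebra.coeff_injective (Finsupp.ext fun n => ?_)⟩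
  classical
  rw [Coact.act_coeff, push_p_p]
  split_ifs
  · simp [(inZ_push_iff D).mp hg.2 m a hm]
  · simp

/-- A point fixed and attracted modulo a square-zero ideal lifts to such a point. -/
theorem exists_inZ_inU_lift [Algebra.FormallySmooth R A] {ν lam : M →+ ℤ} {C : Type u} [CommRing C] [Algebra R C]
    {φ : B →ₐ[R] C} (h : SqZero φ) (hφ : Function.Surjective φ) (g : Pt R A C) (hZ : (D.push ν).InZ g)
    (hU : (D.push lam).InU g) :
    ∃ g' : Pt R A B, (D.push ν).InZ g' ∧ (D.push lam).InU g' ∧ mapPt φ g' = g := by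
  obtain ⟨g', hU', hW, e⟩ := SmSub.exists_inU_lift (stable_fix_top D ν lam) h hφ g ⟨trivial, hZ⟩ hU
  exact ⟨g', hW.2, hU', e⟩

end Push

variable {R : Type u} [CommRing R] {A : Type u} [CommRing A] [HopfAlgebra R A]
  {M : Type} [AddCommGroup M] {idx : Type} {T : SplitTorus R A M} {root : idx → M}

/-- Fixed by `ν` and attracted by `lam`. -/
def OnLine (T : SplitTorus R A M) (ν lam : M →+ ℤ) {B : Type u} [CommRing B] [Algebra R B] (g : Pt R A B) : Prop :=
  (T.coact.push ν).InZ g ∧ (T.coact.push lam).InU g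

/-- The ideal of the line. -/
noncomputable def lineIdeal (T : SplitTorus R A M) (ν lam : M →+ ℤ) : Ideal A :=
  (T.coact.push ν).idealZ ⊔ (T.coact.push lam).idealU

/-- The universal point of the line. -/
noncomputable def lineUniv (T : SplitTorus R A M) (ν lam : M →+ ℤ) : Pt R A (A ⧸ lineIdeal T ν lam) :=
  toConv (Ideal.Quotient.mkₐ R _)

theorem onLine_lineUniv (ν lam : M →+ ℤ) : OnLine T ν lam (lineUniv T ν lam) := by
  refine ⟨fun a n hn => ?_, fun a n hn => ?_, fun a => ?_⟩
  · exact Ideal.Quotient.eq_zero_iff_mem.mpr (Ideal.mem_sup_left (Ideal.subset_span ⟨a, n, hn, rfl⟩))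
  · exact Ideal.Quotient.eq_zero_iff_mem.mpr (Ideal.mem_sup_right (Ideal.subset_span (Or.inl ⟨a, n, hn, rfl⟩)))
  · rw [AlgHom.convOne_apply]
    exact Ideal.Quotient.eq.mpr (Ideal.mem_sup_right (Ideal.subset_span (Or.inr ⟨a, rfl⟩)))

theorem OnLine.factor {ν lam : M →+ ℤ} {B : Type u} [CommRing B] [Algebra R B] {g : Pt R A B}
    (hg : OnLine T ν lam g) : ∃ f : A ⧸ lineIdeal T ν lam →ₐ[R] B, mapPt f (lineUniv T ν lam) = g := by
  refine ⟨Ideal.Quotient.liftₐ _ g.ofConv fun x hx => ?_, pt_ext fun _ => rfl⟩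
  have h : lineIdeal T ν lam ≤ RingHom.ker g.ofConv.toRingHom := by
    refine sup_le (Ideal.span_le.mpr ?_) (Ideal.span_le.mpr ?_)
    · rintro x ⟨a, n, hn, rfl⟩
      exact hg.1 a n hn
    · rintro x (⟨a, n, hn, rfl⟩ | ⟨a, rfl⟩)
      · exact hg.2.1 a n hn
      · simp [RingHom.mem_ker, hg.2.2 a]
  exact h hx

variable (hG : Good T root)
include hG

/-- The universal point of the line is generated by the coordinate. -/
theorem Good.lineUniv_mem_adjoin {i : idx} {ν lam : M →+ ℤ} (hν : ν (root i) = 0) (hlam : 0 < lam (root i))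
    (hsep : ∀ j, ν (root j) = 0 → root j ≠ root i → lam (root j) ≤ 0) {a₀ : A}
    (hpa₀ : T.coact.p (root i) a₀ = a₀) (ha₀ : ∀ a, ∃ c : R, T.coact.p (root i) a - c • a₀ ∈ aug R A ^ 2) (a : A) :
    lineUniv T ν lam a ∈ Algebra.adjoin R {lineUniv T ν lam a₀} := by
  classical
  set Φ := lineUniv T ν lam
  set S := Algebra.adjoin R {Φ a₀}
  obtain ⟨hZ, hU⟩ := onLine_lineUniv (T := T) ν lam
  rw [inZ_push_iff] at hZ
  rw [inU_push_iff] at hU
  have key : ∀ (n : ℕ) (m : M), lam m ≤ n → ∀ a, Φ (T.coact.p m a) ∈ S := by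
    intro n
    induction n using Nat.strong_induction_on with
    | _ n ih =>
      intro m hm a
      by_cases hνm : ν m = 0
      swap
      · rw [show Φ (T.coact.p m a) = 0 from hZ m a hνm]; exact zero_mem _
      rcases lt_trichotomy (lam m) 0 with h | h | h
      · rw [show Φ (T.coact.p m a) = 0 from hU.1 m a h]; exact zero_mem _
      · rw [show Φ (T.coact.p m a) = _ from hU.2 m a h]; exact Subalgebra.algebraMap_mem _ _
      have hm0 : m ≠ 0 := fun h0 => by simp [h0] at h
      -- the values on the square of the augmentation ideal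
      have hsq : ∀ z ∈ aug R A ^ 2, Φ (T.coact.p m z) ∈ S := by
        intro z hz
        rw [pow_two] at hz
        refine Submodule.mul_induction_on hz (fun x hx y hy => ?_) fun x y hx hy => by
          rw [map_add, map_add]; exact add_mem hx hy
        rw [T.coact.p_mul, map_sum]
        refine sum_mem fun k _ => ?_
        rw [map_mul]
        have side : ∀ (l : M) {w : A}, w ∈ aug R A → lam l ≤ 0 → Φ (T.coact.p l w) = 0 := fun l w hw hl => by
          rcases hl.lt_or_eq with hl | hl
          · exact hU.1 l w hl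
          · rw [show Φ (T.coact.p l w) = _ from hU.2 l w hl, mem_aug.mp (p_mem_aug T.coact hw), map_zero]
        rcases le_or_gt (lam k) 0 with hk | hk
        · rw [side k hx hk, zero_mul]; exact zero_mem _
        rcases le_or_gt (lam (m - k)) 0 with hk' | hk'
        · rw [side _ hy hk', mul_zero]; exact zero_mem _
        rw [map_sub] at hk'
        exact mul_mem (ih (lam k).toNat (by omega) k (by omega) x)
          (ih (lam m - lam k).toNat (by omega) (m - k) (by rw [map_sub]; omega) y)
      by_cases hmi : m = root i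
      · obtain ⟨c, hc⟩ := ha₀ a
        rw [← hmi] at hc
        have h2 := hsq _ hc
        rw [map_sub, map_smul, T.coact.p_p_self, map_sub, map_smul] at h2
        have h1 : Φ (T.coact.p m a₀) ∈ S := by
          rw [hmi, hpa₀]
          exact Algebra.subset_adjoin rfl
        have := add_mem h2 (Subalgebra.smul_mem _ h1 c)
        rwa [sub_add_cancel] at this
      · refine T.coact.p_p_self m a ▸ hsq _ (hG.bad m hm0 ?_ a)
        rintro ⟨j, rfl⟩
        exact absurd (hsep j hνm hmi) (not_le.mpr h)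
  rw [← T.coact.sum_p a, map_sum]
  exact sum_mem fun m _ => key (lam m).toNat m (by omega) a

omit hG in
theorem X_pow_dvd_aeval_eq_zero {P q : Polynomial R} {n : ℕ} (hP : P.natDegree ≤ n)
    (h : Polynomial.X ^ (n + 1) ∣ Polynomial.aeval (Polynomial.X + Polynomial.X ^ 2 * q) P) : P = 0 := by
  by_contra hne
  set k := P.natTrailingDegree
  have hk : k ≤ n := P.natTrailingDegree_le_natDegree.trans hP
  obtain ⟨P', hP'⟩ : Polynomial.X ^ k ∣ P :=
    Polynomial.X_pow_dvd_iff.mpr fun d hd => Polynomial.coeff_eq_zero_of_lt_natTrailingDegree hd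
  have hc : P'.coeff 0 = P.trailingCoeff := by
    rw [Polynomial.trailingCoeff, show P.natTrailingDegree = k from rfl]
    conv_rhs => rw [hP', Polynomial.coeff_X_pow_mul', if_pos le_rfl, Nat.sub_self]
  have hfac : Polynomial.aeval (Polynomial.X + Polynomial.X ^ 2 * q) P = Polynomial.X ^ k *
      ((1 + Polynomial.X * q) ^ k * Polynomial.aeval (Polynomial.X + Polynomial.X ^ 2 * q) P') := by
    rw [hP', map_mul, map_pow, Polynomial.aeval_X]
    rw [← mul_assoc (Polynomial.X ^ k), ← mul_pow]
    congr 2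
    ring
  obtain ⟨w, hw⟩ := h
  rw [hfac, show n + 1 = k + (n + 1 - k) by omega, pow_add, mul_assoc] at hw
  have := congrArg (fun f => Polynomial.coeff f 0) ((Polynomial.monic_X_pow k).isRegular.left hw)
  simp only [← Polynomial.comp_eq_aeval, Polynomial.coeff_zero_eq_eval_zero, Polynomial.eval_mul, Polynomial.eval_pow,
    Polynomial.eval_comp, Polynomial.eval_add, Polynomial.eval_one, Polynomial.eval_X, zero_mul, add_zero, one_pow,
    one_mul] at this
  rw [zero_pow (show n + 1 - k ≠ 0 by omega), zero_mul] at this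
  refine hne (Polynomial.trailingCoeff_eq_zero.mp ?_)
  rw [← hc, Polynomial.coeff_zero_eq_eval_zero]
  simpa using this

omit hG in
/-- A point of the line over truncated polynomials with the coordinate close to the variable. -/
theorem exists_line_trunc [Algebra.FormallySmooth R A] {α : M} {ν lam : M →+ ℤ} (hν : ν α = 0) (hlam : 0 < lam α)
    {a₀ : A} {d : A →ₗ[R] R} (hd : IsDer d) (hdp : d ∘ₗ T.coact.p α = d) (hda : d a₀ = 1)
    (hεa : a₀ ∈ aug R A) (n : ℕ) :
    ∃ g : Pt R A (Polynomial R ⧸ Ideal.span {(Polynomial.X : Polynomial R) ^ (n + 2)}), OnLine T ν lam g ∧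
      ∃ q : Polynomial R, g a₀ = Ideal.Quotient.mk _ (Polynomial.X + Polynomial.X ^ 2 * q) := by
  induction n with
  | zero =>
    set J := Ideal.span {(Polynomial.X : Polynomial R) ^ 2}
    let x : Polynomial R ⧸ J := Ideal.Quotient.mk J Polynomial.X
    have hx : x * x = 0 := by
      show Ideal.Quotient.mk J _ * Ideal.Quotient.mk J _ = 0
      rw [← map_mul, ← pow_two]
      exact Ideal.Quotient.eq_zero_iff_mem.mpr (Ideal.subset_span rfl)
    let dX : A →ₗ[R] Polynomial R ⧸ J := LinearMap.smulRight d x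
    have hdX : IsTan (Ideal.span {x}) dX := by
      refine ⟨fun a => ?_, fun a b => ?_⟩
      · show d a • x ∈ _
        exact Submodule.smul_of_tower_mem _ _ (Ideal.subset_span rfl)
      · show d (a * b) • x = _ * (d b • x) + _ * (d a • x)
        rw [hd a b]
        simp only [Algebra.algebraMap_self, RingHom.id_apply, add_smul, mul_smul, Algebra.algebraMap_eq_smul_one,
          smul_mul_assoc, one_mul]
        simp only [eps_apply, Algebra.algebraMap_eq_smul_one, smul_mul_assoc, one_mul]
    have hI : ∀ u ∈ Ideal.span {x}, ∀ v ∈ Ideal.span {x}, u * v = 0 := fun u hu v hv => by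
      obtain ⟨s, rfl⟩ := Ideal.mem_span_singleton'.mp hu
      obtain ⟨t, rfl⟩ := Ideal.mem_span_singleton'.mp hv
      rw [mul_mul_mul_comm, hx, mul_zero]
    have hd0 : ∀ m a, m ≠ α → d (T.coact.p m a) = 0 := fun m a hm => by
      rw [← hdp, LinearMap.comp_apply, T.coact.p_p_ne hm, map_zero]
    refine ⟨tanPt hI hdX, ⟨(inZ_push_iff _).mpr fun m a hm => ?_,
      (inU_push_iff _).mpr ⟨fun m a hm => ?_, fun m a hm => ?_⟩⟩, 0, ?_⟩
    · have h1 : m ≠ α := fun e => hm (e ▸ hν)
      have h2 : m ≠ 0 := fun e => hm (by rw [e, map_zero])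
      simp [tanPt_apply, dX, hd0 m a h1, T.coact.counit_p_ne h2]
    · have h1 : m ≠ α := fun e => absurd (e ▸ hm) (not_lt.mpr hlam.le)
      have h2 : m ≠ 0 := fun e => by simp [e] at hm
      simp [tanPt_apply, dX, hd0 m a h1, T.coact.counit_p_ne h2]
    · have h1 : m ≠ α := fun e => hlam.ne' (e ▸ hm)
      simp [tanPt_apply, dX, hd0 m a h1]
    · simp [tanPt_apply, dX, hda, mem_aug.mp hεa, x]
  | succ n ih =>
    obtain ⟨g, hg, q, hq⟩ := ih
    have hle : Ideal.span {(Polynomial.X : Polynomial R) ^ (n + 3)} ≤ Ideal.span {Polynomial.X ^ (n + 2)} :=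
      Ideal.span_singleton_le_span_singleton.mpr (pow_dvd_pow _ (by omega))
    let φ := Ideal.Quotient.factorₐ R hle
    have hsurj : Function.Surjective φ := Ideal.Quotient.factor_surjective hle
    have hφ : SqZero φ := fun u v hu hv => by
      obtain ⟨u, rfl⟩ := Ideal.Quotient.mk_surjective u
      obtain ⟨v, rfl⟩ := Ideal.Quotient.mk_surjective v
      obtain ⟨u', rfl⟩ := Ideal.mem_span_singleton.mp (Ideal.Quotient.eq_zero_iff_mem.mp hu)
      obtain ⟨v', rfl⟩ := Ideal.mem_span_singleton.mp (Ideal.Quotient.eq_zero_iff_mem.mp hv)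
      rw [← map_mul, Ideal.Quotient.eq_zero_iff_mem, mul_mul_mul_comm, ← pow_add]
      exact Ideal.mem_span_singleton.mpr (Dvd.dvd.mul_right (pow_dvd_pow _ (by omega)) _)
    obtain ⟨g', hZ, hU, hg'⟩ := exists_inZ_inU_lift T.coact hφ hsurj g hg.1 hg.2
    obtain ⟨P, hP⟩ := Ideal.Quotient.mk_surjective (g' a₀)
    have e : Ideal.Quotient.mk (Ideal.span {Polynomial.X ^ (n + 2)}) P =
        Ideal.Quotient.mk _ (Polynomial.X + Polynomial.X ^ 2 * q) := by
      rw [← hq, ← hg', mapPt_apply, ← hP]
      rfl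
    obtain ⟨w, hw⟩ := Ideal.mem_span_singleton.mp (Ideal.Quotient.eq.mp e)
    refine ⟨g', ⟨hZ, hU⟩, q + Polynomial.X ^ n * w, ?_⟩
    rw [← hP]
    congr 1
    rw [eq_add_of_sub_eq hw]
    ring

variable [Algebra.FormallySmooth R A]

/-- The line is the affine line. -/
theorem Good.exists_coordinate {i : idx} {ν lam : M →+ ℤ} (hν : ν (root i) = 0) (hlam : 0 < lam (root i))
    (hsep : ∀ j, ν (root j) = 0 → root j ≠ root i → lam (root j) ≤ 0) :
    ∃ (a₀ : A) (φ : A →ₐ[R] Polynomial R), a₀ ∈ aug R A ∧ T.coact.p (root i) a₀ = a₀ ∧ φ a₀ = Polynomial.X ∧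
      Function.Surjective φ ∧ OnLine T ν lam (toConv φ) ∧
      ∀ (B : Type u) [CommRing B] [Algebra R B] (g : Pt R A B), OnLine T ν lam g → g = linePt φ (g a₀) := by
  classical
  obtain ⟨a₀, hεa, hpa₀, d, hd, hdp, hda, hc⟩ := hG.line i
  let u : A ⧸ lineIdeal T ν lam := lineUniv T ν lam a₀
  let e : Polynomial R →ₐ[R] A ⧸ lineIdeal T ν lam := Polynomial.aeval u
  have hrange : ∀ a, lineUniv T ν lam a ∈ e.range := fun a =>
    (Algebra.adjoin_singleton_eq_range_aeval R u) ▸ hG.lineUniv_mem_adjoin hν hlam hsep hpa₀ hc a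
  have hsurj : Function.Surjective e := fun x => by
    obtain ⟨a, rfl⟩ := Ideal.Quotient.mk_surjective x
    exact hrange a
  have hinj : Function.Injective e := by
    refine (injective_iff_map_eq_zero _).mpr fun P hP => ?_
    obtain ⟨g, hg, q, hq⟩ := exists_line_trunc (T := T) hν hlam hd hdp hda hεa P.natDegree
    obtain ⟨f, hf⟩ := hg.factor
    have hu : f u = g a₀ := DFunLike.congr_fun (congrArg WithConv.ofConv hf) a₀
    have h := congrArg f hP
    rw [map_zero, ← Polynomial.aeval_algHom_apply, hu, hq,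
      ← Ideal.Quotient.mkₐ_eq_mk R, Polynomial.aeval_algHom_apply, Ideal.Quotient.mkₐ_eq_mk,
      Ideal.Quotient.eq_zero_iff_mem, Ideal.mem_span_singleton] at h
    exact X_pow_dvd_aeval_eq_zero (n := P.natDegree + 1) (Nat.le_succ _) h
  let E : Polynomial R ≃ₐ[R] A ⧸ lineIdeal T ν lam := AlgEquiv.ofBijective e ⟨hinj, hsurj⟩
  let φ : A →ₐ[R] Polynomial R := E.symm.toAlgHom.comp (lineUniv T ν lam).ofConv
  have hEφ : ∀ a, e (φ a) = lineUniv T ν lam a := fun a => E.apply_symm_apply _
  have hX : φ a₀ = Polynomial.X := hinj (by rw [hEφ, Polynomial.aeval_X])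
  refine ⟨a₀, φ, hεa, hpa₀, hX, E.symm.surjective.comp Ideal.Quotient.mk_surjective, ?_, fun B _ _ g hg => ?_⟩
  · exact ⟨Coact.InZ.map _ (onLine_lineUniv ν lam).1 E.symm.toAlgHom,
      Coact.InU.map _ (onLine_lineUniv ν lam).2 E.symm.toAlgHom⟩
  · obtain ⟨f, hf⟩ := hg.factor
    refine pt_ext fun a => ?_
    rw [linePt_apply]
    rw [← hf, mapPt_apply, mapPt_apply, ← hEφ, ← Polynomial.aeval_algHom_apply]

omit hG [Algebra.FormallySmooth R A] in
theorem mvpoly_homogeneous {α : M} {lam : M →+ ℤ} (hlam : 0 < lam α) (G : MvPolynomial (Fin 2) R)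
    (hG : MvPolynomial.aeval (fun k => (AddMonoidAlgebra.single α (MvPolynomial.X k) : (MvPolynomial (Fin 2) R)[M])) G =
      AddMonoidAlgebra.single α G) (e : Fin 2 →₀ ℕ) (he : e 0 + e 1 ≠ 1) : G.coeff e = 0 := by
  classical
  have key : ∀ (f : Fin 2 →₀ ℕ) (c : R),
      MvPolynomial.aeval (fun k => (AddMonoidAlgebra.single α (MvPolynomial.X k) : (MvPolynomial (Fin 2) R)[M]))
        (MvPolynomial.monomial f c) =
      AddMonoidAlgebra.single ((f 0 + f 1) • α) (MvPolynomial.monomial f c) := fun f c => by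
    rw [MvPolynomial.aeval_monomial, Finsupp.prod_fintype _ _ (fun _ => pow_zero _), Fin.prod_univ_two,
      AddMonoidAlgebra.single_pow, AddMonoidAlgebra.single_pow, AddMonoidAlgebra.single_mul_single,
      AddMonoidAlgebra.coe_algebraMap, Function.comp_apply, AddMonoidAlgebra.single_mul_single, zero_add, ← add_smul,
      MvPolynomial.monomial_eq, Finsupp.prod_fintype _ _ (fun _ => pow_zero _), Fin.prod_univ_two]
    rfl
  have hinj : ∀ a b : ℕ, a • α = b • α → a = b := fun a b h => by
    have := congrArg lam h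
    rw [map_nsmul, map_nsmul, nsmul_eq_mul, nsmul_eq_mul] at this
    exact_mod_cast mul_right_cancel₀ hlam.ne' this
  have h := congrArg (fun x : (MvPolynomial (Fin 2) R)[M] => (x.coeff ((e 0 + e 1) • α)).coeff e) hG
  nth_rewrite 1 [G.as_sum] at h
  simp only [map_sum, key, AddMonoidAlgebra.coeff_sum, Finsupp.finsetSum_apply, AddMonoidAlgebra.coeff_single,
    MvPolynomial.coeff_sum, Finsupp.single_apply] at h
  rw [Finset.sum_eq_single e, if_pos rfl, MvPolynomial.coeff_monomial, if_pos rfl, if_neg] at h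
  · simpa using h
  · intro hh
    exact he (hinj _ 1 (by rw [one_smul]; exact hh.symm))
  · intro f _ hf
    split_ifs <;> simp [MvPolynomial.coeff_monomial, hf]
  · intro h'
    simp [MvPolynomial.notMem_support_iff.mp h']

omit hG [Algebra.FormallySmooth R A] in
theorem mvpoly_axis (G : MvPolynomial (Fin 2) R) (v : Fin 2 → MvPolynomial (Fin 2) R) (k : Fin 2)
    (hv : ∀ l, v l = if l = k then MvPolynomial.X l else 0) (h : MvPolynomial.aeval v G = 0)
    (e : Fin 2 →₀ ℕ) (he : ∀ l, l ≠ k → e l = 0) : G.coeff e = 0 := by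
  classical
  have key : ∀ f : Fin 2 →₀ ℕ, ∀ c : R, (MvPolynomial.aeval v (MvPolynomial.monomial f c)).coeff e =
      if f = e then c else 0 := fun f c => by
    rw [MvPolynomial.aeval_monomial, Finsupp.prod_fintype _ _ (fun _ => pow_zero _)]
    by_cases hf : ∀ l, l ≠ k → f l = 0
    · have e' : ∏ l, v l ^ f l = ∏ l, (MvPolynomial.X l : MvPolynomial (Fin 2) R) ^ f l :=
        Finset.prod_congr rfl fun l _ => by
          rw [hv]
          split_ifs with hl
          · rfl
          · simp [hf l hl]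
      rw [e', ← Finsupp.prod_fintype f (fun l n => (MvPolynomial.X l : MvPolynomial (Fin 2) R) ^ n)
        (fun _ => pow_zero _), MvPolynomial.algebraMap_eq, ← MvPolynomial.monomial_eq, MvPolynomial.coeff_monomial]
    · push Not at hf
      obtain ⟨l, hl, hfl⟩ := hf
      rw [Finset.prod_eq_zero (Finset.mem_univ l) (by rw [hv, if_neg hl, zero_pow hfl]), mul_zero,
        MvPolynomial.coeff_zero, if_neg]
      exact fun e' => hfl (e' ▸ he l hl)
  have h' := congrArg (MvPolynomial.coeff e) h
  rw [MvPolynomial.coeff_zero, G.as_sum, map_sum, MvPolynomial.coeff_sum,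
    Finset.sum_congr rfl (fun f _ => key f _), Finset.sum_ite_eq'] at h'
  by_cases hmem : e ∈ G.support
  · rwa [if_pos hmem] at h'
  · exact MvPolynomial.notMem_support_iff.mp hmem

/-- **The root homomorphism of a good weight.** -/
theorem Good.exists_rootMap {i : idx} {ν lam : M →+ ℤ} (hν : ν (root i) = 0) (hlam : 0 < lam (root i))
    (hsep : ∀ j, ν (root j) = 0 → root j ≠ root i → lam (root j) ≤ 0) :
    ∃ φ : A →ₐ[R] Polynomial R, Function.Surjective φ ∧
      (∀ (B : Type u) [CommRing B] [Algebra R B] (x y : B), linePt φ (x + y) = linePt φ x * linePt φ y) ∧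
      (∀ (B : Type u) [CommRing B] [Algebra R B] (χ : Multiplicative M →* B) (x : B),
        T.tor χ * linePt φ x = linePt φ (χ (Multiplicative.ofAdd (root i)) * x) * T.tor χ) := by
  classical
  obtain ⟨a₀, φ, hεa, hpa₀, hX, hsurj, honl, huniq⟩ := hG.exists_coordinate hν hlam hsep
  have hline : ∀ {B : Type u} [CommRing B] [Algebra R B] (x : B), OnLine T ν lam (linePt φ x) := fun x =>
    ⟨Coact.InZ.map _ honl.1 (Polynomial.aeval x), Coact.InU.map _ honl.2 (Polynomial.aeval x)⟩
  have hval : ∀ {B : Type u} [CommRing B] [Algebra R B] (x : B), linePt φ x a₀ = x := fun x => by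
    rw [linePt_apply, hX, Polynomial.aeval_X]
  have hzero : ∀ {B : Type u} [CommRing B] [Algebra R B], linePt φ (0 : B) = 1 := fun {B} _ _ => by
    have := huniq B 1 ⟨Coact.inZ_one _, Coact.inU_one _⟩
    rwa [AlgHom.convOne_apply, mem_aug.mp hεa, map_zero, eq_comm] at this
  have hact : ∀ {B : Type u} [CommRing B] [Algebra R B] (g : Pt R A B), OnLine T ν lam g →
      T.coact.act g = linePt φ (AddMonoidAlgebra.single (root i) (g a₀)) := fun {B} _ _ g hg => by
    have honact : OnLine T ν lam (T.coact.act g) := by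
      refine ⟨(inZ_push_iff _).mpr fun m a hm => ?_, (inU_push_iff _).mpr ⟨fun m a hm => ?_, fun m a hm => ?_⟩⟩ <;>
        refine AddMonoidAlgebra.coeff_injective (Finsupp.ext fun n => ?_) <;> rw [Coact.act_coeff, T.coact.p_p]
      · split_ifs <;> simp [(inZ_push_iff _).mp hg.1 m a hm]
      · split_ifs <;> simp [((inU_push_iff _).mp hg.2).1 m a hm]
      · rcases eq_or_ne m 0 with rfl | hm0
        · split_ifs with h
          · subst h
            simp [((inU_push_iff _).mp hg.2).2 0 a hm, AddMonoidAlgebra.coe_algebraMap]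
          · simp [AddMonoidAlgebra.coe_algebraMap, Ne.symm h]
        · split_ifs <;> simp [((inU_push_iff _).mp hg.2).2 m a hm, T.coact.counit_p_ne hm0]
    rw [huniq _ _ honact]
    congr 1
    refine AddMonoidAlgebra.coeff_injective (Finsupp.ext fun n => ?_)
    rw [Coact.act_coeff, AddMonoidAlgebra.coeff_single, Finsupp.single_apply]
    by_cases hn : root i = n
    · rw [if_pos hn, ← hn, hpa₀]
    · rw [if_neg hn, ← hpa₀, T.coact.p_p_ne hn, map_zero]
  refine ⟨φ, hsurj, ?_, ?_⟩
  · -- additivity
    let P := MvPolynomial (Fin 2) R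
    let gF := linePt φ (MvPolynomial.X 0 : P) * linePt φ (MvPolynomial.X 1)
    let F : P := gF a₀
    have hF : ∀ {B : Type u} [CommRing B] [Algebra R B] (x y : B),
        linePt φ x * linePt φ y = linePt φ (MvPolynomial.aeval ![x, y] F) := fun {B} _ _ x y => by
      let f : P →ₐ[R] B := MvPolynomial.aeval ![x, y]
      have e1 : mapPt f gF = linePt φ x * linePt φ y := by
        simp [gF, f, map_mul, mapPt_linePt, P]
      rw [← e1, ← mapPt_linePt f φ F]
      congr 1
      exact huniq _ _ ⟨Coact.InZ.mul _ (hline _).1 (hline _).1, Coact.InU.mul _ (hline _).2 (hline _).2⟩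
    let G := F - (MvPolynomial.X 0 + MvPolynomial.X 1)
    have hhom : MvPolynomial.aeval (fun k => (AddMonoidAlgebra.single (root i) (MvPolynomial.X k) : P[M])) G =
        AddMonoidAlgebra.single (root i) G := by
      have h1 : T.coact.act gF = linePt φ (AddMonoidAlgebra.single (root i) F) :=
        hact _ ⟨Coact.InZ.mul _ (hline _).1 (hline _).1, Coact.InU.mul _ (hline _).2 (hline _).2⟩
      rw [map_mul, hact _ (hline _), hact _ (hline _), hval, hval, hF] at h1
      have h2 := congrArg (fun g : Pt R A P[M] => g a₀) h1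
      simp only [hval] at h2
      have ev : (fun k => (AddMonoidAlgebra.single (root i) (MvPolynomial.X k) : P[M])) =
          ![AddMonoidAlgebra.single (root i) (MvPolynomial.X 0), AddMonoidAlgebra.single (root i) (MvPolynomial.X 1)] := by
        funext k; fin_cases k <;> rfl
      rw [ev]
      simp only [G, map_sub, map_add, MvPolynomial.aeval_X, h2, AddMonoidAlgebra.single_sub, AddMonoidAlgebra.single_add,
        Matrix.cons_val_zero, Matrix.cons_val_one]
    have hax0 : MvPolynomial.aeval ![(0 : P), MvPolynomial.X 1] G = 0 := by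
      have h := congrArg (fun g : Pt R A P => g a₀) (hF (0 : P) (MvPolynomial.X 1))
      simp only [hzero, one_mul, hval] at h
      simp only [G, map_sub, map_add, MvPolynomial.aeval_X, ← h]
      simp
    have hax1 : MvPolynomial.aeval ![(MvPolynomial.X 0 : P), 0] G = 0 := by
      have h := congrArg (fun g : Pt R A P => g a₀) (hF (MvPolynomial.X 0 : P) 0)
      simp only [hzero, mul_one, hval] at h
      simp only [G, map_sub, map_add, MvPolynomial.aeval_X, ← h]
      simp
    have hG0 : G = 0 := MvPolynomial.ext _ _ fun e => by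
      rw [MvPolynomial.coeff_zero]
      by_cases h0 : e 0 = 0
      · refine mvpoly_axis G _ 1 (fun l => by fin_cases l <;> simp) hax0 e fun l hl => ?_
        fin_cases l
        · exact h0
        · exact absurd rfl hl
      by_cases h1 : e 1 = 0
      · refine mvpoly_axis G _ 0 (fun l => by fin_cases l <;> simp) hax1 e fun l hl => ?_
        fin_cases l
        · exact absurd rfl hl
        · exact h1
      exact mvpoly_homogeneous hlam G hhom e (by omega)
    intro B _ _ x y
    rw [hF, sub_eq_zero.mp hG0, map_add, MvPolynomial.aeval_X, MvPolynomial.aeval_X]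
    simp
  · intro B _ _ χ x
    have h := congrArg (mapPt ((AddMonoidAlgebra.lift B B M χ).restrictScalars R)) (hact _ (hline x))
    rw [T.act_eq, hval, map_mul, map_mul, map_inv, T.mapPt_tor, mapPt_mapPt, mapPt_linePt] at h
    have e1 : ((AddMonoidAlgebra.lift B B M χ).restrictScalars R).toRingHom.toMonoidHom.comp (univChar B M) = χ := by
      ext m; simp
    have e2 : ((AddMonoidAlgebra.lift B B M χ).restrictScalars R).comp AddMonoidAlgebra.singleZeroAlgHom =
        AlgHom.id R B := by
      ext z; simp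
    rw [e1, e2, mul_inv_eq_iff_eq_mul] at h
    simp only [mapPt_linePt, AlgHom.id_apply] at h
    rw [h]
    congr 2
    simp [mul_comm]

end Groth.Agent.SplitBase30
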