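import Groth.Agent.SplitBase30.Coords
import Groth.Agent.SplitBase30.Base

/-!
# The weights of the cotangent space near a point of the base
-/

set_option autoImplicit false
set_option synthInstance.maxHeartbeats 100000

universe u

open TensorProduct WithConv
open scoped AddMonoidAlgebra

namespace Groth.Agent.SplitBase30

open BigCell29

variable {R : Type u} [CommRing R] {A : Type u} [CommRing A] [HopfAlgebra R A]
  {M : Type} [AddCommGroup M] {idx : Type}

/-- The only non-trivial weights of the cotangent space are the roots, with multiplicity one. -/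
structure Good (T : SplitTorus R A M) (root : idx → M) : Prop where
  bad : ∀ m, m ≠ 0 → m ∉ Set.range root → ∀ a, T.coact.p m a ∈ aug R A ^ 2
  line : ∀ i, ∃ a₀ ∈ aug R A, T.coact.p (root i) a₀ = a₀ ∧ ∃ d : A →ₗ[R] R, IsDer d ∧
    d ∘ₗ T.coact.p (root i) = d ∧ d a₀ = 1 ∧ ∀ a, ∃ c : R, T.coact.p (root i) a - c • a₀ ∈ aug R A ^ 2

variable {k : Type u} [Field k] [Algebra R k] {p : Ideal R}

section Coord

variable {D : Coact R A M} (C : Coords D)

/-- An element killed by all derivations with values in the field has coordinates in the prime. -/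
theorem Coords.coord_mem (hker : RingHom.ker (algebraMap R k) = p) {x : A}
    (h : ∀ d : A →ₗ[R] k, IsDer d → d x = 0) (j : Fin C.N) : C.s j x ∈ p := by
  rw [← hker, RingHom.mem_ker]
  exact h _ ((C.der j).comp_algHom (Algebra.ofId R k))

include C in
theorem exists_bad (hp : p.IsPrime) (hker : RingHom.ker (algebraMap R k) = p) [Fintype idx] (root : idx → M)
    (hbad : ∀ m, m ≠ 0 → m ∉ Set.range root → ∀ d : A →ₗ[R] k, IsDer d → ∀ a, d (D.p m a) = 0) :
    ∃ r ∉ p, ∀ m, m ≠ 0 → m ∉ Set.range root → ∀ a, r • D.p m a ∈ aug R A ^ 2 := by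
  classical
  let P : Fin C.N → Prop := fun i => C.deg i ≠ 0 ∧ C.deg i ∉ Set.range root
  let E : {i // P i} → {i // P i} → R := fun i j => if C.deg j.1 = C.deg i.1 then C.s j.1 (C.x i.1) else 0
  obtain ⟨r, hr, hrx⟩ := exists_smul_mem_sq (p := p) (hp.ne_top ∘ p.eq_top_iff_one.mpr)
    (fun i : {i // P i} => C.x i.1) E (fun i j => by
    simp only [E]
    split_ifs
    · exact C.coord_mem hker (fun d hd => by rw [← C.hom i.1]; exact hbad _ i.2.1 i.2.2 d hd _) _
    · exact zero_mem _) fun i => by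
    rw [one_smul]
    convert C.expand_deg (m := C.deg i.1) (C.mem i.1) using 2
    · rw [C.hom]
    · simp only [E, ite_smul, zero_smul]
      rw [← Finset.sum_filter]
      refine Finset.sum_bij' (fun j _ => j.1) (fun j hj => ⟨j, by
          have hd : C.deg j = C.deg i.1 := (Finset.mem_filter.mp hj).2
          exact ⟨hd ▸ i.2.1, hd ▸ i.2.2⟩⟩) ?_ ?_ ?_ ?_ ?_
      all_goals simp
  refine ⟨r, hr, fun m hm hmr a => ?_⟩
  have hε : D.p m a = D.p m (a - algebraMap R A (Coalgebra.counit (R := R) a)) := by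
    rw [map_sub, Algebra.algebraMap_eq_smul_one, map_smul, D.p_one_ne hm, smul_zero, sub_zero]
  rw [hε]
  have h := smul_mem_sq r (C.expand_deg (m := m) (a := a - algebraMap R A (Coalgebra.counit (R := R) a))
    (by simp [mem_aug]))
  rw [smul_sub, Finset.smul_sum] at h
  refine (Submodule.sub_mem_iff_left _ (sum_mem fun i hi => ?_)).mp h
  rw [smul_comm]
  have hd : C.deg i = m := (Finset.mem_filter.mp hi).2
  exact smul_mem_sq _ (hrx ⟨i, hd ▸ hm, hd ▸ hmr⟩)

include C in
theorem exists_line (hp : p.IsPrime) (hker : RingHom.ker (algebraMap R k) = p) {α : M} (hα : α ≠ 0)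
    {dα : A →ₗ[R] k} (hdα : IsDer dα) (hne : ∃ a, dα (D.p α a) ≠ 0)
    (hprop : ∀ δ : A →ₗ[R] k, IsDer δ → ∃ c, ∀ a, δ (D.p α a) = c * dα (D.p α a)) :
    ∃ r ∉ p, ∃ a₀ ∈ aug R A, D.p α a₀ = a₀ ∧ ∃ d : A →ₗ[R] R, IsDer d ∧ d ∘ₗ D.p α = d ∧
      (∃ e, e * d a₀ = r) ∧ ∀ a, ∃ c : R, r • D.p α a - c • a₀ ∈ aug R A ^ 2 := by
  classical
  let a' : A → A := fun a => a - algebraMap R A (Coalgebra.counit (R := R) a)
  have ha' : ∀ a, a' a ∈ aug R A := fun a => by simp [a', mem_aug]
  have haug : ∀ a, D.p α a = D.p α (a' a) := fun a => by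
    rw [map_sub, Algebra.algebraMap_eq_smul_one, map_smul, D.p_one_ne hα, smul_zero, sub_zero]
  have hxα : ∀ i, C.deg i = α → D.p α (C.x i) = C.x i := fun i hi => by rw [← hi, C.hom]
  -- a generator of the line
  obtain ⟨i₀, hi₀, j, hj⟩ : ∃ i, C.deg i = α ∧ ∃ j, C.s j (C.x i) ∉ p := by
    by_contra! hall
    obtain ⟨a, ha⟩ := hne
    refine ha ?_
    have hzero : ∀ i, C.deg i = α → dα (C.x i) = 0 := fun i hi => by
      have h1 := hdα.eq_zero_of_sq (C.expand (C.x i) (C.mem i))
      rw [map_sub, sub_eq_zero, map_sum] at h1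
      rw [h1]
      refine Finset.sum_eq_zero fun l _ => ?_
      have hl : C.s l (C.x i) ∈ RingHom.ker (algebraMap R k) := hker.symm ▸ hall i hi l
      rw [map_smul, Algebra.smul_def, RingHom.mem_ker.mp hl, zero_mul]
    have h := hdα.eq_zero_of_sq (C.expand_deg (m := α) (ha' a))
    rw [map_sub, sub_eq_zero, map_sum] at h
    rw [haug, h]
    exact Finset.sum_eq_zero fun i hi => by rw [map_smul, hzero i (Finset.mem_filter.mp hi).2, smul_zero]
  let a₀ := C.x i₀
  let d := C.s j ∘ₗ D.p α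
  have hd : IsDer d := (C.der j).comp_p D α
  have ha₀ : D.p α a₀ = a₀ := hxα i₀ hi₀
  let u := d a₀
  have hup : u ∉ p := by
    show C.s j (D.p α a₀) ∉ p
    rw [ha₀]
    exact hj
  have huk : algebraMap R k u ≠ 0 := fun h => hup (hker ▸ RingHom.mem_ker.mpr h)
  let φ : R →ₐ[R] k := Algebra.ofId R k
  let yf : A → A := fun a => u • a - d a • a₀
  let y : {i // C.deg i = α} → A := fun i => yf (C.x i.1)
  have hyhom : ∀ i, D.p α (y i) = y i := fun i => by
    simp only [y, yf, map_sub, map_smul, ha₀, hxα i.1 i.2]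
  have hyaug : ∀ i, y i ∈ aug R A := fun i => by
    simp [y, yf, mem_aug, map_sub, map_smul, mem_aug.mp (C.mem i.1), mem_aug.mp (C.mem i₀), a₀]
  have hyd : ∀ i, d (y i) = 0 := fun i => by
    simp only [y, yf, map_sub, map_smul, smul_eq_mul]
    show u * d (C.x i.1) - d (C.x i.1) * u = 0
    ring
  have hcoord : ∀ i (l : Fin C.N), C.s l (y i) ∈ p := fun i l => C.coord_mem hker (fun δ hδ => by
    obtain ⟨c, hc⟩ := hprop δ hδ
    obtain ⟨c', hc'⟩ := hprop _ (hd.comp_algHom φ)
    have e0 : φ (d (D.p α a₀)) = c' * dα (D.p α a₀) := hc' a₀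
    have e1 : φ (d (D.p α (y i))) = c' * dα (D.p α (y i)) := hc' (y i)
    rw [ha₀] at e0
    rw [hyhom, hyd, map_zero] at e1
    have hc0 : c' ≠ 0 := fun h0 => huk (by rw [h0, zero_mul] at e0; exact e0)
    rw [← hyhom i, hc, hyhom, (mul_eq_zero.mp e1.symm).resolve_left hc0, mul_zero]) l
  obtain ⟨r, hr, hry⟩ := exists_smul_mem_sq (p := p) hup y (fun i l => C.s l.1 (y i))
    (fun i l => hcoord i l.1) fun i => by
    have h := C.expand_deg (m := α) (hyaug i)
    rw [hyhom, Finset.sum_subtype (p := fun l => C.deg l = α) (Finset.univ.filter fun l => C.deg l = α)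
      (fun l => by simp)] at h
    have h0 : ∑ l : {l // C.deg l = α}, C.s l.1 (y i) * d (C.x l.1) = 0 := by
      have h' := hd.eq_zero_of_sq h
      rw [map_sub, hyd, zero_sub, neg_eq_zero, map_sum] at h'
      simpa only [map_smul, smul_eq_mul] using h'
    have e : ∑ l : {l // C.deg l = α}, C.s l.1 (y i) • y l = u • ∑ l : {l // C.deg l = α}, C.s l.1 (y i) • C.x l.1 := by
      have : ∀ l : {l // C.deg l = α}, C.s l.1 (y i) • y l =
          u • (C.s l.1 (y i) • C.x l.1) - (C.s l.1 (y i) * d (C.x l.1)) • a₀ := fun l => by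
        show C.s l.1 (y i) • (u • C.x l.1 - d (C.x l.1) • a₀) = _
        simp only [smul_sub, smul_smul]
        rw [mul_comm u]
      rw [Finset.sum_congr rfl fun l _ => this l, Finset.sum_sub_distrib, ← Finset.smul_sum, ← Finset.sum_smul, h0,
        zero_smul, sub_zero]
    rw [e, ← smul_sub]
    exact smul_mem_sq _ h
  refine ⟨r * u, fun h => (hp.mem_or_mem h).elim hr hup, a₀, C.mem i₀, ha₀, d, hd,
    LinearMap.ext fun x => congrArg (C.s j) (D.p_p_self α x), ⟨r, rfl⟩, fun a => ?_⟩
  refine ⟨∑ l : {l // C.deg l = α}, C.s l.1 (a' a) * (r * d (C.x l.1)), ?_⟩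
  have h := smul_mem_sq (r * u) (C.expand_deg (m := α) (ha' a))
  rw [← haug, Finset.sum_subtype (p := fun l => C.deg l = α) (Finset.univ.filter fun l => C.deg l = α)
    (fun l => by simp)] at h
  have h2 : (∑ l : {l // C.deg l = α}, C.s l.1 (a' a) • (r • y l)) ∈ aug R A ^ 2 :=
    sum_mem fun l _ => smul_mem_sq _ (hry l)
  convert add_mem h h2 using 1
  simp only [y, yf, smul_sub, Finset.smul_sum, smul_smul, Finset.sum_sub_distrib, Finset.sum_smul]
  rw [show (∑ l : {l // C.deg l = α}, (C.s l.1 (a' a) * (r * u)) • C.x l.1) =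
    ∑ l : {l // C.deg l = α}, (r * u * C.s l.1 (a' a)) • C.x l.1 from Finset.sum_congr rfl fun l _ => by rw [mul_comm]]
  simp only [mul_assoc]
  abel

end Coord

/-- Near a prime at which the weights are the roots with multiplicity one the torus is good. -/
theorem exists_good (T : SplitTorus R A M) [Algebra.FormallySmooth R A] [Algebra.FiniteType R A] [Fintype idx]
    (root : idx → M) (hroot : ∀ i, root i ≠ 0) (hp : p.IsPrime) (hker : RingHom.ker (algebraMap R k) = p)
    (hbad : ∀ m, m ≠ 0 → m ∉ Set.range root → ∀ d : A →ₗ[R] k, IsDer d → ∀ a, d (T.coact.p m a) = 0)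
    (hline : ∀ i, ∃ dα : A →ₗ[R] k, IsDer dα ∧ (∃ a, dα (T.coact.p (root i) a) ≠ 0) ∧
      ∀ δ : A →ₗ[R] k, IsDer δ → ∃ c, ∀ a, δ (T.coact.p (root i) a) = c * dα (T.coact.p (root i) a)) :
    ∃ r ∉ p, ∀ (R' : Type u) [CommRing R'] [Algebra R R'], IsUnit (algebraMap R R' r) →
      Good (bcTorus R' T) root := by
  classical
  obtain ⟨C⟩ := exists_coords T.coact
  obtain ⟨r₀, hr₀, hb⟩ := exists_bad C hp hker root hbad
  choose dα hdα hne hprop using hline
  choose r hr a₀ ha₀ hpa₀ d hd hdp he c hc using fun i => exists_line C hp hker (hroot i) (hdα i) (hne i) (hprop i)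
  refine ⟨r₀ * ∏ i, r i, fun h => ?_, fun R' _ _ hunit => ?_⟩
  · rcases hp.mem_or_mem h with h | h
    · exact hr₀ h
    · obtain ⟨i, -, hi⟩ := hp.prod_mem_iff.mp h
      exact hr i hi
  rw [map_mul, IsUnit.mul_iff, map_prod, IsUnit.prod_iff] at hunit
  have haug : ∀ {z : A}, z ∈ aug R A → (1 : R') ⊗ₜ[R] z ∈ aug R' (R' ⊗[R] A) := fun hz => by
    rw [mem_aug, counit_one_tmul, mem_aug.mp hz, map_zero]
  have hsq : ∀ {z : A}, z ∈ aug R A ^ 2 → (1 : R') ⊗ₜ[R] z ∈ aug R' (R' ⊗[R] A) ^ 2 := fun hz => by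
    rw [pow_two] at hz ⊢
    refine Submodule.mul_induction_on hz (fun x hx y hy => ?_) fun x y hx hy => by rw [tmul_add]; exact add_mem hx hy
    rw [← one_mul (1 : R'), ← Algebra.TensorProduct.tmul_mul_tmul]
    exact Ideal.mul_mem_mul (haug hx) (haug hy)
  have hscal : ∀ (c : R) (z : A), (1 : R') ⊗ₜ[R] (c • z) = algebraMap R R' c • (1 : R') ⊗ₜ[R] z := fun c z => by
    rw [tmul_smul, algebraMap_smul]
  refine ⟨fun m hm hmr x => ?_, fun i => ?_⟩
  · induction x using TensorProduct.induction_on with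
    | zero => rw [map_zero]; exact zero_mem _
    | add x y hx hy => rw [map_add]; exact add_mem hx hy
    | tmul s a =>
      rw [show s ⊗ₜ[R] a = s • (1 : R') ⊗ₜ[R] a by rw [TensorProduct.smul_tmul', smul_eq_mul, mul_one], map_smul,
        bcTorus_p]
      obtain ⟨v, hv⟩ := hunit.1
      have h := smul_mem_sq (↑v⁻¹ : R') (hsq (hb m hm hmr a))
      rw [hscal, ← hv, smul_smul, Units.inv_mul, one_smul] at h
      exact smul_mem_sq _ h
  · obtain ⟨v, hv⟩ := hunit.2 i (Finset.mem_univ _)
    have hu : IsUnit (algebraMap R R' (d i (a₀ i))) := by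
      obtain ⟨e, he'⟩ := he i
      have : IsUnit (algebraMap R R' (e * d i (a₀ i))) := by rw [he', ← hv]; exact v.isUnit
      rw [map_mul, IsUnit.mul_iff] at this
      exact this.2
    obtain ⟨w, hw⟩ := hu
    let d' : R' ⊗[R] A →ₗ[R'] R' :=
      (↑w⁻¹ : R') • LinearMap.liftBaseChange R' ((Algebra.linearMap R R') ∘ₗ d i)
    have hd' : ∀ s a, d' (s ⊗ₜ[R] a) = ↑w⁻¹ * (s * algebraMap R R' (d i a)) := fun s a => by simp [d', smul_eq_mul]
    refine ⟨(1 : R') ⊗ₜ[R] a₀ i, haug (ha₀ i), by rw [bcTorus_p, hpa₀ i], d', ?_, ?_, ?_, fun x => ?_⟩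
    · intro x y
      induction x using TensorProduct.induction_on with
      | zero => simp
      | add x x' hx hx' => rw [add_mul, map_add, hx, hx']; simp only [map_add]; ring
      | tmul s a =>
        induction y using TensorProduct.induction_on with
        | zero => simp
        | add y y' hy hy' => rw [mul_add, map_add, hy, hy']; simp only [map_add]; ring
        | tmul t b =>
          rw [Algebra.TensorProduct.tmul_mul_tmul, hd', hd', hd', hd i a b, map_add, map_mul, map_mul]
          simp only [TensorProduct.counit_tmul, CommSemiring.counit_apply, Algebra.algebraMap_self, RingHom.id_apply,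
            Algebra.smul_def]
          ring
    · refine TensorProduct.AlgebraTensorModule.ext fun s a => ?_
      show d' ((bcTorus R' T).coact.p (root i) (s ⊗ₜ[R] a)) = d' (s ⊗ₜ[R] a)
      rw [show s ⊗ₜ[R] a = s • (1 : R') ⊗ₜ[R] a by rw [TensorProduct.smul_tmul', smul_eq_mul, mul_one], map_smul,
        map_smul, map_smul, bcTorus_p, hd', hd', show d i (T.coact.p (root i) a) = d i a from LinearMap.congr_fun (hdp i) a]
    · rw [hd', one_mul, ← hw, Units.inv_mul]
    · induction x using TensorProduct.induction_on with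
      | zero => exact ⟨0, by simp⟩
      | add x y hx hy =>
        obtain ⟨c, hc⟩ := hx
        obtain ⟨c', hc'⟩ := hy
        exact ⟨c + c', by rw [map_add, add_smul, add_sub_add_comm]; exact add_mem hc hc'⟩
      | tmul s a =>
        refine ⟨s * ↑v⁻¹ * algebraMap R R' (c i a), ?_⟩
        have h := smul_mem_sq (s * ↑v⁻¹) (hsq (hc i a))
        rw [tmul_sub, hscal, hscal, ← hv, smul_sub, smul_smul, smul_smul, Units.inv_mul_cancel_right] at h
        rwa [show s ⊗ₜ[R] a = s • (1 : R') ⊗ₜ[R] a by rw [TensorProduct.smul_tmul', smul_eq_mul, mul_one], map_smul,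
          bcTorus_p]

end Groth.Agent.SplitBase30
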