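import Groth.Agent.Fibre38.GeomSplit
import Mathlib.AlgebraicGeometry.Morphisms.QuasiFinite
import Mathlib.AlgebraicGeometry.Morphisms.Etale
import Mathlib.RingTheory.Unramified.LocalStructure

/-!
# Reductivity is stable under étale base change
-/

set_option autoImplicit false
set_option linter.style.haveILetI false

universe u

open CategoryTheory CategoryTheory.Limits MonoidalCategory CartesianMonoidalCategory AlgebraicGeometry
open scoped MonObj

namespace Groth.Agent.SplitBase30

variable {K : Type u} [Field K]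

/-- Reductivity over a field is invariant under isomorphisms of groups. -/
theorem isReductiveOver_of_iso {X Y : Over (Spec (CommRingCat.of K))} [GrpObj X] [GrpObj Y]
    (e : Grp.mk X ≅ Grp.mk Y) (h : Red.IsReductiveOver K X) : Red.IsReductiveOver K Y := by
  obtain ⟨hA, hS, hC, hN⟩ := h
  haveI := hA; haveI := hS; haveI := hC
  let c : Y ⟶ X := e.inv.hom.hom
  let d : X ⟶ Y := e.hom.hom.hom
  haveI : IsMonHom c := e.inv.hom.isMonHom_hom
  haveI : IsMonHom d := e.hom.hom.isMonHom_hom
  have hdc : d ≫ c = 𝟙 _ := congrArg (fun k => k.hom.hom) e.hom_inv_id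
  have hcd : c ≫ d = 𝟙 _ := congrArg (fun k => k.hom.hom) e.inv_hom_id
  haveI : IsIso c := ⟨d, hcd, hdc⟩
  haveI : IsIso c.left := inferInstanceAs (IsIso ((Over.forget _).map c))
  refine ⟨IsAffine.of_isIso c.left, ?_, (Scheme.homeoOfIso (asIso c.left)).symm.surjective.connectedSpace
    (Scheme.homeoOfIso (asIso c.left)).symm.continuous, fun U _ i _ hi hsm hconn hnorm hno => ?_⟩
  · rw [← Over.w c]; infer_instance
  haveI := hi
  refine hN U (i ≫ c) ?_ hsm hconn (fun T a n => ?_) hno
  · rw [Over.comp_left]; infer_instance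
  obtain ⟨n', hn'⟩ := hnorm T (a ≫ d) n
  refine ⟨n', ?_⟩
  have h2 := congrArg (· ≫ c) hn'
  rw [MonObj.mul_comp, MonObj.mul_comp, GrpObj.inv_comp, Category.assoc a, hdc, Category.comp_id] at h2
  simpa only [Category.assoc] using h2

variable {S U : Scheme.{u}}

theorem locallyQuasiFinite_of_etale (f : U ⟶ S) [Etale f] : LocallyQuasiFinite f := by
  refine ⟨fun {V} hV {W} hW e => ?_⟩
  have h : (f.appLE V W e).hom.Etale :=
    HasRingHomProperty.appLE (P := @Etale) f inferInstance ⟨V, hV⟩ ⟨W, hW⟩ e
  algebraize [(f.appLE V W e).hom]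
  show Algebra.QuasiFinite _ _
  infer_instance

/-- The residue extensions of an étale morphism have the same algebraic closure. -/
theorem exists_geomPt_iso (f : U ⟶ S) [Etale f] (y : U) :
    ∃ m : Spec (CommRingCat.of (AlgebraicClosure (U.residueField y))) ⟶
        Spec (CommRingCat.of (AlgebraicClosure (S.residueField (f.base y)))),
      IsIso m ∧ m ≫ Red.geomPt (f.base y) = Red.geomPt y ≫ f := by
  let κ := S.residueField (f.base y)
  let κ' := U.residueField y
  haveI := locallyQuasiFinite_of_etale f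
  haveI : LocallyQuasiFinite (Spec.map (f.residueFieldMap y) ≫ S.fromSpecResidueField (f.base y)) := by
    rw [Scheme.Hom.SpecMap_residueFieldMap_fromSpecResidueField]; infer_instance
  have hq : LocallyQuasiFinite (Spec.map (f.residueFieldMap y)) :=
    LocallyQuasiFinite.of_comp _ (S.fromSpecResidueField (f.base y))
  have hq' : (f.residueFieldMap y).hom.QuasiFinite :=
    (HasRingHomProperty.Spec_iff (P := @LocallyQuasiFinite)).mp hq
  let ρ : κ →+* AlgebraicClosure κ' := (algebraMap κ' (AlgebraicClosure κ')).comp (f.residueFieldMap y).hom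
  letI : Algebra κ κ' := (f.residueFieldMap y).hom.toAlgebra
  haveI : Algebra.QuasiFinite κ κ' := hq'
  haveI : Module.Finite κ κ' := Module.Finite.of_quasiFinite
  haveI : Algebra.IsAlgebraic κ (AlgebraicClosure κ') := Algebra.IsAlgebraic.trans κ κ' (AlgebraicClosure κ')
  let σ : AlgebraicClosure κ →ₐ[κ] AlgebraicClosure κ' := IsAlgClosed.lift
  have hσb : Function.Bijective σ.toRingHom := by
    letI : Algebra (AlgebraicClosure κ) (AlgebraicClosure κ') := σ.toRingHom.toAlgebra
    haveI : IsScalarTower κ (AlgebraicClosure κ) (AlgebraicClosure κ') :=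
      .of_algebraMap_eq fun x => (σ.commutes x).symm
    haveI : Algebra.IsIntegral (AlgebraicClosure κ) (AlgebraicClosure κ') :=
      haveI : Algebra.IsIntegral κ (AlgebraicClosure κ') := Algebra.IsAlgebraic.isIntegral
      Algebra.IsIntegral.tower_top κ
    exact IsAlgClosed.algebraMap_bijective_of_isIntegral
  haveI : IsIso (CommRingCat.ofHom σ.toRingHom) := (ConcreteCategory.isIso_iff_bijective _).mpr hσb
  refine ⟨Spec.map (CommRingCat.ofHom σ.toRingHom), inferInstance, ?_⟩
  have hσ : σ.toRingHom.comp (algebraMap κ (AlgebraicClosure κ)) = ρ :=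
    RingHom.ext fun x => (σ.commutes x).trans (IsScalarTower.algebraMap_apply κ κ' (AlgebraicClosure κ') x)
  rw [← Category.assoc, ← Spec.map_comp, ← CommRingCat.ofHom_comp, hσ]
  rw [show CommRingCat.ofHom ρ = f.residueFieldMap y ≫ CommRingCat.ofHom (algebraMap κ' (AlgebraicClosure κ')) from rfl]
  rw [Spec.map_comp, Category.assoc, Scheme.Hom.SpecMap_residueFieldMap_fromSpecResidueField, Category.assoc]
  rfl

/-- The base change of a reductive group along an étale morphism is reductive. -/
theorem isReductive_bc (f : U ⟶ S) [Etale f] {G : Over S} [GrpObj G] (hG : Red.IsReductive G) :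
    Red.IsReductive (Red.bc f G) := by
  obtain ⟨hA, hS, hF⟩ := hG
  haveI := hA; haveI := hS
  refine ⟨MorphismProperty.pullback_snd (P := @IsAffineHom) _ _ hA, inferInstanceAs (Smooth (pullback.snd G.hom f)),
    fun y => ?_⟩
  obtain ⟨m, hm, hcomp⟩ := exists_geomPt_iso f y
  haveI := hm
  obtain ⟨e1⟩ := GrpSchLib.MultTypeBC.bc_bc m (Red.geomPt (f.base y)) G
  obtain ⟨e2⟩ := GrpSchLib.MultTypeBC.bc_congr hcomp G
  obtain ⟨e3⟩ := GrpSchLib.MultTypeBC.bc_bc (Red.geomPt y) f G
  exact isReductiveOver_of_iso (e1 ≪≫ e2 ≪≫ e3.symm) (Fibre38.isReductiveOver_bc m (hF (f.base y)))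

end Groth.Agent.SplitBase30
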