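import Groth.Agent.SplitBase30.Torus
import Groth.Agent.ConjEtale19.Main

/-!
# Reflections on an étale neighbourhood
-/

set_option autoImplicit false
set_option linter.style.haveILetI false
set_option synthInstance.maxHeartbeats 100000

universe u

open CategoryTheory CategoryTheory.Limits MonoidalCategory CartesianMonoidalCategory AlgebraicGeometry
open scoped MonObj

namespace Groth.Agent.SplitBase30

open DSPtsLib Rank2Red38
open MultDefLib (Transp)

variable {S U : Scheme.{u}} {G T : Over S} [GrpObj G] [GrpObj T] {M : Type} [AddCommGroup M]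
  (split : Grp.mk T ≅ Grp.mk (Red.DS S M)) (i : T ⟶ G)

/-- The inclusion of a split torus twisted by a map of characters. -/
noncomputable def twist (φ : M →+ M) : T ⟶ G :=
  split.hom.hom.hom ≫ Red.DSmap S φ ≫ split.inv.hom.hom ≫ i

theorem isMonHom_twist [IsMonHom i] (φ : M →+ M) : IsMonHom (twist split i φ) := by
  haveI : IsMonHom split.hom.hom.hom := split.hom.hom.isMonHom_hom
  haveI : IsMonHom split.inv.hom.hom := split.inv.hom.isMonHom_hom
  haveI : IsMonHom (Red.DSmap S φ) := S5427.isMonHom_DSmap S φ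
  unfold twist
  infer_instance

theorem theta_twist (g : U ⟶ S) (φ : M →+ M) {X : Over U} (t : X ⟶ Red.bc g T) :
    theta g (t ≫ (bcTS split g).hom.hom.hom ≫ Red.DSmap U φ ≫ (bcTS split g).inv.hom.hom ≫ (Over.pullback g).map i) =
      theta g t ≫ twist split i φ := by
  simp only [← Category.assoc, MultDefLib.theta_map, twist]
  congr 1
  set t' := ((t ≫ (bcTS split g).hom.hom.hom) ≫ Red.DSmap U φ) ≫ (bcTS split g).inv.hom.hom with ht'
  have h : theta g t' ≫ split.hom.hom.hom = (theta g t ≫ split.hom.hom.hom) ≫ Red.DSmap S φ := ds_ext fun m => by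
    rw [← dsVal_bcTS, ht', dsVal_map, ← dsVal_bcTS]
    simp only [Category.assoc, split_inv_hom, Category.comp_id]
    rw [← Category.assoc, dsVal_map]
  rw [← h, Category.assoc, split_hom_inv, Category.comp_id]

/-- A reflection over a point of the base is a transporter. -/
theorem exists_transp_of_refl (g : U ⟶ S) (φ : M →+ M) (n : 𝟙_ (Over U) ⟶ Red.bc g G)
    (hn : ∀ (X : Over U) (t : X ⟶ Red.bc g T),
      (toUnit X ≫ n) * (t ≫ (Over.pullback g).map i) * (toUnit X ≫ n)⁻¹ =
        t ≫ (bcTS split g).hom.hom.hom ≫ Red.DSmap U φ ≫ (bcTS split g).inv.hom.hom ≫ (Over.pullback g).map i) :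
    ∃ l : Over.mk g ⟶ G, Transp i (twist split i φ) l := by
  let c : Over.mk g ⟶ (Over.map g).obj (𝟙_ (Over U)) := Over.homMk (𝟙 _) (by simp)
  refine ⟨c ≫ theta g n, fun X' x h => ?_⟩
  let Y : Over U := Over.mk x.left
  let e : X' ≅ (Over.map g).obj Y := Over.isoMk (Iso.refl _) (by
    show 𝟙 _ ≫ x.left ≫ g = X'.hom
    rw [Category.id_comp]; exact Over.w x)
  obtain ⟨t, ht⟩ := (theta_bijective g).surjective (e.inv ≫ h)
  have key := congrArg (theta g) (hn Y t)
  rw [theta_mul, theta_mul, MultDefLib.theta_inv, MultDefLib.theta_map, theta_comp, theta_twist, ht] at key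
  have key' := congrArg (e.hom ≫ ·) key
  simp only [MonObj.comp_mul, GrpObj.comp_inv, ← Category.assoc, Iso.hom_inv_id, Category.id_comp] at key'
  have hx : (x ≫ c) ≫ theta g n = (e.hom ≫ (Over.map g).map (toUnit Y)) ≫ theta g n := by
    congr 1
  rw [← Category.assoc, hx]
  exact key'

/-- A transporter over the base gives a reflection after base change. -/
theorem exists_refl_of_transp (g : U ⟶ S) (φ : M →+ M) (l : Over.mk g ⟶ G) (hl : Transp i (twist split i φ) l) :
    ∃ n : 𝟙_ (Over U) ⟶ Red.bc g G, ∀ (X : Over U) (t : X ⟶ Red.bc g T),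
      (toUnit X ≫ n) * (t ≫ (Over.pullback g).map i) * (toUnit X ≫ n)⁻¹ =
        t ≫ (bcTS split g).hom.hom.hom ≫ Red.DSmap U φ ≫ (bcTS split g).inv.hom.hom ≫ (Over.pullback g).map i := by
  let c : (Over.map g).obj (𝟙_ (Over U)) ⟶ Over.mk g := Over.homMk (𝟙 _) (by simp)
  obtain ⟨n, hn⟩ := (theta_bijective g).surjective (c ≫ l)
  refine ⟨n, fun X t => (theta_bijective g).injective ?_⟩
  rw [theta_mul, theta_mul, MultDefLib.theta_inv, MultDefLib.theta_map, theta_comp, theta_twist, hn]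
  have := hl _ ((Over.map g).map (toUnit X) ≫ c) (theta g t)
  simpa only [Category.assoc] using this

/-- Finitely many transporters exist on a common étale neighbourhood. -/
theorem exists_common_nhd {J : Type} [Fintype J] {K : Scheme.{u}} (k : K ⟶ S) (x : K) (u : T ⟶ G) (v : J → (T ⟶ G))
    (h : ∀ a, ∃ (V : Scheme.{u}) (f : V ⟶ S) (_ : Etale f), k.base x ∈ Set.range f.base ∧
      ∃ l : Over.mk f ⟶ G, Transp u (v a) l) :
    ∃ (V : Scheme.{u}) (f : V ⟶ S) (_ : Etale f), k.base x ∈ Set.range f.base ∧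
      ∀ a, ∃ l : Over.mk f ⟶ G, Transp u (v a) l := by
  classical
  suffices ∀ s : Finset J, ∃ (V : Scheme.{u}) (f : V ⟶ S) (_ : Etale f), k.base x ∈ Set.range f.base ∧
      ∀ a ∈ s, ∃ l : Over.mk f ⟶ G, Transp u (v a) l by
    obtain ⟨V, f, hf, hx, hV⟩ := this Finset.univ
    exact ⟨V, f, hf, hx, fun a => hV a (Finset.mem_univ a)⟩
  intro s
  induction s using Finset.induction_on with
  | empty => exact ⟨S, 𝟙 S, inferInstance, ⟨k.base x, rfl⟩, by simp⟩
  | insert a s _ ih =>
    obtain ⟨V, f, hf, ⟨y, hy⟩, hV⟩ := ih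
    obtain ⟨W, g, hg, ⟨z, hz⟩, l, hl⟩ := h a
    haveI := hf
    haveI := hg
    obtain ⟨w, hw1, -⟩ := Scheme.Pullback.exists_preimage_pullback (f := f) (g := g) y z (hy.trans hz.symm)
    refine ⟨pullback f g, pullback.fst f g ≫ f, inferInstance, ⟨w, ?_⟩, fun b hb => ?_⟩
    · rw [Scheme.Hom.comp_apply, hw1, hy]
    rcases Finset.mem_insert.mp hb with rfl | hb
    · exact ⟨(Over.homMk (pullback.snd f g) pullback.condition.symm : Over.mk (pullback.fst f g ≫ f) ⟶ Over.mk g) ≫ l,
        hl.comp _⟩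
    · obtain ⟨l', hl'⟩ := hV b hb
      exact ⟨(Over.homMk (pullback.fst f g) : Over.mk (pullback.fst f g ≫ f) ⟶ Over.mk f) ≫ l', hl'.comp _⟩

/-- A transporter at a geometric point gives one on an étale neighbourhood. -/
theorem exists_nhd_transp (hT : SGA3x.IsMultTypeFT T) (hG : Smooth G.hom) (hGa : IsAffineHom G.hom) (u v : T ⟶ G)
    [IsMonHom u] [IsMonHom v] {K : Scheme.{u}} (k : K ⟶ S) (x : K) (g : Over.mk k ⟶ G) (hg : Transp u v g) :
    ∃ (V : Scheme.{u}) (f : V ⟶ S) (_ : Etale f), k.base x ∈ Set.range f.base ∧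
      ∃ l : Over.mk f ⟶ G, Transp u v l := by
  haveI := hG
  haveI := hGa
  obtain ⟨Tr, t, -, hTr, hTu⟩ := MultDefLib.exists_transporter_smooth hT u v
  obtain ⟨z, -⟩ := (hTu _ g).mpr hg
  have hx : k.base x ∈ Set.range Tr.hom.base := ⟨z.left.base x, by rw [← Scheme.Hom.comp_apply, Over.w z]; rfl⟩
  obtain ⟨V, f, s', hf, hs', l, hl⟩ := S0412.result Tr.hom (k.base x) hx
  exact ⟨V, f, hf, ⟨s', hs'⟩, Over.homMk l hl ≫ t, (hTu _ _).mp ⟨_, rfl⟩⟩

end Groth.Agent.SplitBase30
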