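import Groth.Prelude.Def_Red2
import Groth.Agent.SgaFix20.SplitRank
import Groth.Agent.Fibre38.GeomSplit

/-!
# Transport of a splitting along isomorphisms of groups
-/

set_option autoImplicit false
set_option linter.style.haveILetI false

universe u

open CategoryTheory CategoryTheory.Limits MonoidalCategory CartesianMonoidalCategory AlgebraicGeometry
open scoped MonObj

namespace Groth.Agent.SplitBase30

variable {S : Scheme.{u}} {G G' : Over S} [GrpObj G] [GrpObj G']

/-- The splitting carried over by isomorphisms of the group and of the torus. -/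
noncomputable def transportSplit (D : Red.SplitRed G) (E : Grp.mk G ≅ Grp.mk G') {T' : Over S} [GrpObj T']
    (e : Grp.mk D.T ≅ Grp.mk T') (i' : T' ⟶ G') (comm : D.i ≫ E.hom.hom.hom = e.hom.hom.hom ≫ i')
    (hred : Red.IsReductive G') (hmax : Red.IsMaximalTorus i') : Red.SplitRed G' where
  T := T'
  i := i'
  M := D.M
  idx := D.idx
  P := D.P
  pairing_eq := D.pairing_eq
  u a := D.u a ≫ E.hom.hom.hom
  reductive := hred
  maximalTorus := hmax
  split := e.symm ≪≫ D.split
  rootHom a := by
    haveI := (D.rootHom a).1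
    haveI := (D.rootHom a).2.1
    haveI : IsMonHom E.hom.hom.hom := E.hom.hom.isMonHom_hom
    haveI : IsIso E.hom.hom.hom := ((Grp.forget _).mapIso E).isIso_hom
    haveI : IsIso E.hom.hom.hom.left := inferInstanceAs (IsIso ((Over.forget _).map E.hom.hom.hom))
    refine ⟨inferInstance, ?_, fun X t x => ?_⟩
    · rw [Over.comp_left]; infer_instance
    obtain ⟨y, h1, h2⟩ := (D.rootHom a).2.2 X (t ≫ e.inv.hom.hom) x
    refine ⟨y, ?_, ?_⟩
    · have h := congrArg (· ≫ E.hom.hom.hom) h1
      simp only [MonObj.mul_comp, GrpObj.inv_comp, Category.assoc, comm] at h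
      rw [← Category.assoc t, ← Category.assoc (t ≫ _), Category.assoc t,
        show e.inv.hom.hom ≫ e.hom.hom.hom = 𝟙 _ from congrArg (fun k => k.hom.hom) e.inv_hom_id,
        Category.comp_id] at h
      exact h
    · rw [h2]
      simp [Category.assoc]
  refl a := by
    obtain ⟨n, hn⟩ := D.refl a
    haveI : IsMonHom E.hom.hom.hom := E.hom.hom.isMonHom_hom
    have he : e.inv.hom.hom ≫ e.hom.hom.hom = 𝟙 _ := congrArg (fun k => k.hom.hom) e.inv_hom_id
    refine ⟨n ≫ E.hom.hom.hom, fun X t => ?_⟩
    have h := congrArg (· ≫ E.hom.hom.hom) (hn X (t ≫ e.inv.hom.hom))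
    simp only [MonObj.mul_comp, GrpObj.inv_comp, Category.assoc, comm] at h
    rw [← Category.assoc e.inv.hom.hom e.hom.hom.hom, he, Category.id_comp] at h
    simpa [Category.assoc] using h
  dim_fibre s := by
    rw [← D.dim_fibre s]
    exact (Scheme.homeoOfIso ((Over.forget _).mapIso ((Over.pullback (Red.geomPt s)).mapIso
      ((Grp.forget _).mapIso E).symm))).isHomeomorph.topologicalKrullDim_eq

end Groth.Agent.SplitBase30
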