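import Groth.Agent.SplitBase30.Weights
import Groth.Agent.SplitBase30.Line
import Groth.Agent.SplitBase30.RootHom
import Groth.Agent.SplitBase30.Reflect
import Groth.Agent.SplitBase30.Transport
import Groth.Agent.RedRk29.Extremal

/-!
# Splittings near a point of the base
-/

set_option autoImplicit false
set_option linter.style.haveILetI false
set_option synthInstance.maxHeartbeats 100000

universe u

open CategoryTheory CategoryTheory.Limits MonoidalCategory CartesianMonoidalCategory AlgebraicGeometry WithConv
open TensorProduct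
open scoped MonObj AddMonoidAlgebra

namespace Groth.Agent.SplitBase30

open BigCell29
open MultDefLib (Transp)

/-- The coroot as a homomorphism. -/
noncomputable def corootHom {M : Type} [AddCommGroup M] {idx : Type} (P : RootPairing idx ℤ M (Module.Dual ℤ M))
    (a : idx) : M →+ ℤ :=
  (P.coroot' a).toAddMonoidHom

/-- A cocharacter killing a root and no root not proportional to it. -/
theorem exists_killing {M : Type} [AddCommGroup M] [Module.Free ℤ M] [Module.Finite ℤ M] {idx : Type} [Fintype idx]
    (P : RootPairing idx ℤ M (Module.Dual ℤ M)) [P.IsReduced] (a : idx) :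
    ∃ ν : M →+ ℤ, ν (P.root a) = 0 ∧
      ∀ j, ν (P.root j) = 0 → P.root j ≠ P.root a → corootHom P a (P.root j) ≤ 0 := by
  let w : M → M := fun m => (2 : ℤ) • m - P.coroot' a m • P.root a
  obtain ⟨l, hl, -⟩ := RedRk29.exists_perturb (0 : M →+ ℤ) (Set.finite_range fun j => w (P.root j))
  let ν : M →+ ℤ := (2 : ℤ) • l - l (P.root a) • corootHom P a
  have hν : ∀ m, ν m = l (w m) := fun m => by
    simp [ν, w, corootHom, mul_comm]
  have haa : P.coroot' a (P.root a) = 2 := by rw [P.root_coroot'_eq_pairing, P.pairing_same]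
  refine ⟨ν, ?_, fun j hj hne => ?_⟩
  · rw [hν]
    simp [w, haa]
  · rw [hν] at hj
    have hw : w (P.root j) = 0 := by
      by_contra h
      exact hl _ ⟨j, rfl⟩ h hj
    have hdep : ¬ LinearIndependent ℤ ![P.root j, P.root a] := fun hL => by
      have := (LinearIndependent.pair_iff.mp hL 2 (-(P.coroot' a (P.root j))) (by
        rw [neg_smul, ← sub_eq_add_neg]; exact hw)).1
      omega
    rcases RootPairing.IsReduced.eq_or_eq_neg j a hdep with h | h
    · exact absurd h hne
    · show P.coroot' a (P.root j) ≤ 0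
      rw [h, map_neg, haa]; norm_num

variable {R : Type u} [CommRing R] {G T : Over (Spec (CommRingCat.of R))} [GrpObj G] [GrpObj T]
  {M : Type} [AddCommGroup M] [Module.Free ℤ M] [Module.Finite ℤ M]
  {A : Type u} [CommRing A] [HopfAlgebra R A] (Md : Model (𝟙 (Spec (CommRingCat.of R))) G A)
  (hG : Red.IsReductive G) (i : T ⟶ G) [IsMonHom i] [Mono i] (hi : Red.IsMaximalTorus i)
  (split : Grp.mk T ≅ Grp.mk (Red.DS (Spec (CommRingCat.of R)) M))
  {idx : Type} [Fintype idx] (P : RootPairing idx ℤ M (Module.Dual ℤ M))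
  (R' : Type u) [CommRing R'] [Algebra R R'] [Etale (kMap R R')]

include Md hG in
/-- A splitting over an étale algebra on which the torus is good and the reflections exist. -/
theorem exists_split_of_good (hi : Red.IsMaximalTorus i) (hP : P.toLinearMap = Module.Dual.eval ℤ M)
    (hne : ∀ j, P.root j ≠ 0) [P.IsReduced] (hgood : Good (bcTorus R' (splitTorus i split Md)) P.root)
    (hrefl : ∀ a, ∃ l : Over.mk (kMap R R') ⟶ G, Transp i (twist split i (P.reflection a).toLinearMap.toAddMonoidHom) l) :
    ∃ (D : Red.SplitRed (Red.bc (kMap R R') G)) (e : Grp.mk D.T ≅ Grp.mk (Red.bc (kMap R R') T)),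
      D.i = e.hom.hom.hom ≫ (Over.pullback (kMap R R')).map i := by
  haveI := hG.1
  haveI := hG.2.1
  haveI := Md.smooth hG.2.1
  haveI : Algebra.FinitePresentation R A := Algebra.Smooth.finitePresentation
  let g := kMap R R'
  let i' : Red.bc g T ⟶ Red.bc g G := (Over.pullback g).map i
  have hred : Red.IsReductive (Red.bc g G) := isReductive_bc g hG
  have hmax : Red.IsMaximalTorus i' := MaxTorusLib.isMaximalTorus_bc g hi
  haveI : IsMonHom i' := hmax.1
  haveI : Mono i' := hmax.2.1
  haveI : IsAffineHom (Red.bc g G).hom := hred.1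
  haveI : IsAffine (Red.bc g G).left := isAffine_of_isAffineHom (Red.bc g G).hom
  let split' := bcTS split g
  haveI : IsAffine (Red.DS (Spec (CommRingCat.of R')) M).left := by
    haveI : IsAffine (Red.diag (ULift.{u} ℤ) M).left := inferInstanceAs (IsAffine (Spec _))
    exact inferInstanceAs (IsAffine (pullback (Red.diag (ULift.{u} ℤ) M).hom
      (IsTerminal.from specULiftZIsTerminal (Spec (CommRingCat.of R')))))
  haveI : IsIso split'.hom.hom.hom.left :=
    inferInstanceAs (IsIso (((Grp.forget _) ⋙ Over.forget _).map split'.hom))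
  haveI : IsAffine (Red.bc g T).left := IsAffine.of_isIso split'.hom.hom.hom.left
  obtain ⟨A', _, _, ⟨Md'⟩⟩ := exists_model (𝟙 (Spec (CommRingCat.of R'))) (Red.bc g G)
  obtain ⟨ψ, hψ, hψq⟩ := exists_comorphism Md Md'
  have htor : ∀ (B : Type u) [CommRing B] [Algebra R B] [Algebra R' B] [IsScalarTower R R' B]
      (χ : Multiplicative M →* B),
      rPt Md Md' ((splitTorus i' split' Md').tor χ) = (bcTorus R' (splitTorus i split Md)).tor χ := fun B _ _ _ _ χ => by
    apply (res_bijective R').injective
    apply Md.pt_bijective.injective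
    rw [pt_res_rPt, pt_splitTorus, theta_torP, res_tor, pt_splitTorus]
  have hroot : ∀ a, ∃ u : Red.Ga (Spec (CommRingCat.of R')) ⟶ Red.bc g G,
      Red.IsRootHom i' (split'.hom.hom.hom ≫ Red.chi _ (P.root a)) u := fun a => by
    obtain ⟨ν, hν, hsep⟩ := exists_killing P a
    have hlam : 0 < corootHom P a (P.root a) := by
      show 0 < P.coroot' a (P.root a)
      rw [P.root_coroot'_eq_pairing, P.pairing_same]; norm_num
    obtain ⟨φ, hsurj, hadd, hconj⟩ := hgood.exists_rootMap hν hlam hsep
    letI : Algebra R (Polynomial R') := Algebra.compHom _ (algebraMap R R')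
    haveI : IsScalarTower R R' (Polynomial R') := .of_algebraMap_eq fun _ => rfl
    obtain ⟨q, hq⟩ := (rPt_bijective Md Md' (B := Polynomial R')).surjective (toConv φ)
    have hφ : φ = q.ofConv.comp ψ := congrArg WithConv.ofConv (hq.symm.trans (hψq _ q))
    have hline : ∀ (B : Type u) [CommRing B] [Algebra R B] [Algebra R' B] [IsScalarTower R R' B] (x : B),
        rPt Md Md' (linePt q.ofConv x) = linePt φ x := fun B _ _ _ _ x => by
      rw [hψq, hφ]
      rfl
    obtain ⟨u, hu, -⟩ := exists_rootHom i' split' Md' (α := P.root a) (φ := q.ofConv)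
      (fun y => by
        obtain ⟨z, hz⟩ := hsurj y
        exact ⟨ψ z, by rw [← hz, hφ]; rfl⟩)
      (fun B _ _ x y => by
        letI : Algebra R B := Algebra.compHom B (algebraMap R R')
        haveI : IsScalarTower R R' B := .of_algebraMap_eq fun _ => rfl
        apply (rPt_bijective Md Md').injective
        rw [rPt_mul, hline, hline, hline, hadd])
      (fun B _ _ χ x => by
        letI : Algebra R B := Algebra.compHom B (algebraMap R R')
        haveI : IsScalarTower R R' B := .of_algebraMap_eq fun _ => rfl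
        apply (rPt_bijective Md Md').injective
        rw [rPt_mul, rPt_mul, hline, hline, htor, hconj])
    exact ⟨u, hu⟩
  choose u hu using hroot
  exact ⟨{ T := Red.bc g T, i := i', M := M, idx := idx, P := P, pairing_eq := hP, u := u, reductive := hred
           maximalTorus := hmax, split := split', rootHom := hu
           refl := fun a => by
             obtain ⟨l, hl⟩ := hrefl a
             exact exists_refl_of_transp split i g _ l hl
           dim_fibre := dim_fibre_of_good Md hG i hi split P.root hne hgood },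
    Iso.refl _, (Category.id_comp _).symm⟩

include hG hi split in
/-- **A split maximal torus extends to a splitting on an étale neighbourhood of every point.** -/
theorem exists_split_affine_nhd (p : PrimeSpectrum R) :
    ∃ (B : Type u) (_ : CommRing B) (_ : Algebra R B) (_ : Etale (kMap R B)),
      p ∈ Set.range (kMap R B).base ∧ ∃ (D : Red.SplitRed (Red.bc (kMap R B) G))
        (e : Grp.mk D.T ≅ Grp.mk (Red.bc (kMap R B) T)), D.i = e.hom.hom.hom ≫ (Over.pullback (kMap R B)).map i := by
  haveI := hG.1
  obtain ⟨A, _, _, ⟨Md⟩⟩ := exists_model (𝟙 (Spec (CommRingCat.of R))) G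
  obtain ⟨idx, _, P, r, k, _, _, hP, hne, hred, hr, hker, hrefl, hgood⟩ := exists_roots_nhd Md hG i hi split p
  have hx : (kMap R k).base (IsLocalRing.closedPoint k) = p := by
    refine PrimeSpectrum.ext ?_
    show (IsLocalRing.maximalIdeal k).comap (algebraMap R k) = p.asIdeal
    rw [IsLocalRing.maximalIdeal_eq_bot, ← RingHom.ker_eq_comap_bot, hker]
  have hm : SGA3x.IsMultTypeFT T := by
    obtain ⟨S', f, hf, hs, hqc, hloc⟩ := hi.2.2.1
    exact ⟨S', f, hf, hs, hqc, fun s' => let ⟨U, hU, r, he⟩ := hloc s'
      ⟨U, hU, Fin r → ℤ, inferInstance, inferInstance, he⟩⟩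
  obtain ⟨V, f, hf, ⟨v, hv⟩, hV⟩ := exists_common_nhd (kMap R k) (IsLocalRing.closedPoint k) i
    (fun a => twist split i (P.reflection a).toLinearMap.toAddMonoidHom) fun a => by
      obtain ⟨n, hn⟩ := hrefl a
      obtain ⟨l, hl⟩ := exists_transp_of_refl split i (kMap R k) _ n hn
      haveI := isMonHom_twist split i (P.reflection a).toLinearMap.toAddMonoidHom
      exact exists_nhd_transp hm hG.2.1 hG.1 i _ (kMap R k) (IsLocalRing.closedPoint k) l hl
  haveI := hf
  rw [hx] at hv
  let W : V.Opens := f ⁻¹ᵁ PrimeSpectrum.basicOpen r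
  have hvW : v ∈ W := by
    show f.base v ∈ PrimeSpectrum.basicOpen r
    rw [hv]; exact hr
  obtain ⟨W', hW', hvW', hW'W⟩ := exists_isAffineOpen_mem_and_subset hvW
  obtain ⟨β, hβ⟩ := Spec.map_surjective (hW'.fromSpec ≫ f)
  let B : Type u := Γ(V, W')
  letI : Algebra R B := β.hom.toAlgebra
  have hk : kMap R B = hW'.fromSpec ≫ f := hβ
  haveI het : Etale (kMap R B) := by rw [hk]; infer_instance
  have hunit : IsUnit (algebraMap R B r) := by
    by_contra hnu
    obtain ⟨m, hm, hrm⟩ := exists_max_ideal_of_mem_nonunits hnu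
    let x : PrimeSpectrum B := ⟨m, hm.isPrime⟩
    have hxm : hW'.fromSpec.base x ∈ W := hW'W (hW'.range_fromSpec.le ⟨x, rfl⟩)
    have h1 : (kMap R B).base x ∈ PrimeSpectrum.basicOpen r := by
      rw [hk, Scheme.Hom.comp_apply]; exact hxm
    exact h1 hrm
  obtain ⟨w, hw⟩ : v ∈ Set.range hW'.fromSpec.base := hW'.range_fromSpec.ge hvW'
  refine ⟨B, inferInstance, inferInstance, het, ⟨w, ?_⟩, ?_⟩
  · rw [hk, Scheme.Hom.comp_apply, hw, hv]
  haveI := hred
  refine exists_split_of_good Md hG i split P B hi hP hne (hgood B hunit) fun a => ?_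
  obtain ⟨l, hl⟩ := hV a
  exact ⟨(Over.homMk hW'.fromSpec hk.symm : Over.mk (kMap R B) ⟶ Over.mk f) ≫ l, hl.comp _⟩

end Groth.Agent.SplitBase30
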