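import Groth.Agent.SplitBase30.Base
import Groth.Agent.Fibre38.BcPts

/-!
# A split torus of an affine group and its base change, on points
-/

set_option autoImplicit false
set_option linter.style.haveILetI false

universe u

open CategoryTheory CategoryTheory.Limits MonoidalCategory CartesianMonoidalCategory AlgebraicGeometry WithConv
open scoped MonObj AddMonoidAlgebra

namespace Groth.Agent.SplitBase30

open BigCell29 DSPtsLib Rank2Red38

variable {S : Scheme.{u}} {R : Type u} [CommRing R] {f : Spec (CommRingCat.of R) ⟶ S}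
  {B C : Type u} [CommRing B] [Algebra R B] [CommRing C] [Algebra R C]
  {G T : Over S} [GrpObj G] [GrpObj T] {M : Type} [AddCommGroup M] (i : T ⟶ G) [IsMonHom i]
  (split : Grp.mk T ≅ Grp.mk (Red.DS S M))

theorem split_inv_hom : split.inv.hom.hom ≫ split.hom.hom.hom = 𝟙 _ := congrArg (fun k => k.hom.hom) split.inv_hom_id

theorem split_hom_inv : split.hom.hom.hom ≫ split.inv.hom.hom = 𝟙 _ := congrArg (fun k => k.hom.hom) split.hom_inv_id

/-- A point of a split torus in the group. -/
noncomputable def torP (χ : Multiplicative M →* B) : tObj f B ⟶ G :=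
  chPt f χ ≫ split.inv.hom.hom ≫ i

theorem torP_mul (χ χ' : Multiplicative M →* B) : torP (f := f) i split (χ * χ') = torP i split χ * torP i split χ' := by
  have : IsMonHom split.inv.hom.hom := split.inv.hom.isMonHom_hom
  simp only [torP, chPt_mul, MonObj.mul_comp]

omit [IsMonHom i] in
theorem torP_map (φ : B →ₐ[R] C) (χ : Multiplicative M →* B) :
    tMap f φ ≫ torP i split χ = torP i split (φ.toRingHom.toMonoidHom.comp χ) := by
  simp only [torP, ← Category.assoc, chPt_map]

omit [IsMonHom i] in
theorem torP_injective [Mono i] : Function.Injective (torP (f := f) (B := B) i split) := by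
  intro χ χ' h
  have : IsIso split.inv.hom.hom := ((Grp.forget _).mapIso split.symm).isIso_hom
  refine (chPt_bijective f).injective ?_
  simpa [torP, cancel_mono, ← Category.assoc] using h

variable {A : Type u} [CommRing A] [HopfAlgebra R A] (Md : Model f G A)

/-- The split torus of an affine model. -/
noncomputable def splitTorus : SplitTorus R A M where
  π := (Md.ofPt (torP i split (univChar R M))).ofConv
  tor_mul B _ _ χ χ' := by
    have key : ∀ χ : Multiplicative M →* B,
        Md.pt (torPt (Md.ofPt (torP i split (univChar R M))).ofConv χ) = torP i split χ := fun χ => by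
      have e : torPt (Md.ofPt (torP i split (univChar R M))).ofConv χ =
          mapPt (AddMonoidAlgebra.lift R B M χ) (Md.ofPt (torP i split (univChar R M))) := rfl
      rw [e, Md.pt_map, Md.pt_ofPt, torP_map]
      congr 1
      ext m
      simp
    exact Md.pt_bijective.injective (by rw [Md.pt_mul, key, key, key, torP_mul])

theorem pt_splitTorus (χ : Multiplicative M →* B) : Md.pt ((splitTorus i split Md).tor χ) = torP i split χ := by
  show Md.pt (mapPt (AddMonoidAlgebra.lift R B M χ) (Md.ofPt (torP i split (univChar R M)))) = _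
  rw [Md.pt_map, Md.pt_ofPt, torP_map]
  congr 1
  ext m
  simp

theorem surjective_splitTorus [Mono i] : Function.Surjective (splitTorus i split Md).π :=
  SplitTorus.surjective_of_injective _ fun B _ _ χ χ' h => torP_injective i split (by
    rw [← pt_splitTorus i split Md, ← pt_splitTorus i split Md]; exact congrArg Md.pt h)

variable {U : Scheme.{u}} (g : U ⟶ S)

/-- The base change of a splitting of a torus. -/
noncomputable def bcTS : Grp.mk (Red.bc g T) ≅ Grp.mk (Red.DS U M) :=
  haveI := Fibre38.isMonHom_dsFwd g M
  haveI : IsMonHom (Fibre38.dsIso g M).hom := this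
  (Over.pullback g).mapGrp.mapIso split ≪≫ Grp.mkIso' (Fibre38.dsIso g M)

theorem dsVal_bcTS {Y : Over U} (t : Y ⟶ Red.bc g T) (m : M) :
    dsVal (t ≫ (bcTS split g).hom.hom.hom) m = dsVal (theta g t ≫ split.hom.hom.hom) m := by
  show dsVal (t ≫ (Over.pullback g).map split.hom.hom.hom ≫ Fibre38.dsFwd g M) m = _
  rw [← Category.assoc, Fibre38.dsVal_dsFwd, theta_map]

omit [IsMonHom i] in
theorem dsVal_chPt (χ : Multiplicative M →* B) (m : M) :
    dsVal (chPt f χ) m = (tVal f B).symm (χ (Multiplicative.ofAdd m)) := by
  rw [← gmFn_chi, gmFn_chPt_chi]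

section Restrict

variable {k : Type u} [CommRing k] [Algebra R k] {B' : Type u} [CommRing B'] [Algebra R B'] [Algebra k B']
  [IsScalarTower R k B'] [Algebra k B] [IsScalarTower R k B]

variable (R k B) in
/-- A test object over the new base is one over the old base. -/
noncomputable def cIso : tObj (𝟙 (Spec (CommRingCat.of R))) B ≅
    (Over.map (Spec.map (CommRingCat.ofHom (algebraMap R k)))).obj (tObj (𝟙 (Spec (CommRingCat.of k))) B) :=
  Over.isoMk (Iso.refl _) (by
    show 𝟙 _ ≫ (Spec.map _ ≫ 𝟙 _) ≫ Spec.map _ = Spec.map _ ≫ 𝟙 _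
    rw [Category.id_comp, Category.comp_id, Category.comp_id, ← Spec.map_comp, ← CommRingCat.ofHom_comp,
      ← IsScalarTower.algebraMap_eq])

omit [IsMonHom i] in
theorem cIso_natural (φ : B →ₐ[k] B') :
    tMap (𝟙 (Spec (CommRingCat.of R))) (φ.restrictScalars R) ≫ (cIso R B k).hom =
      (cIso R B' k).hom ≫ (Over.map (Spec.map (CommRingCat.ofHom (algebraMap R k)))).map
        (tMap (𝟙 (Spec (CommRingCat.of k))) φ) :=
  Over.OverMorphism.ext ((Category.comp_id _).trans (Category.id_comp _).symm)

end Restrict

section Fibre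

variable {k : Type u} [CommRing k] [Algebra R k] {G T : Over (Spec (CommRingCat.of R))} [GrpObj G] [GrpObj T]
  (i : T ⟶ G) (split : Grp.mk T ≅ Grp.mk (Red.DS (Spec (CommRingCat.of R)) M))
  [Algebra k B] [IsScalarTower R k B]

theorem theta_torP (χ : Multiplicative M →* B) :
    (cIso R B k).hom ≫ theta (Spec.map (CommRingCat.ofHom (algebraMap R k)))
      (torP (f := 𝟙 (Spec (CommRingCat.of k)))
        ((Over.pullback (Spec.map (CommRingCat.ofHom (algebraMap R k)))).map i)
        (bcTS split (Spec.map (CommRingCat.ofHom (algebraMap R k)))) χ) =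
      torP (f := 𝟙 (Spec (CommRingCat.of R))) i split χ := by
  set g := Spec.map (CommRingCat.ofHom (algebraMap R k))
  rw [torP, torP, ← Category.assoc (chPt _ χ), theta_map, ← Category.assoc, ← Category.assoc (chPt _ χ)]
  congr 1
  have h : ((cIso R B k).hom ≫ theta g (chPt (𝟙 (Spec (CommRingCat.of k))) χ ≫ (bcTS split g).inv.hom.hom)) ≫
      split.hom.hom.hom = chPt (𝟙 (Spec (CommRingCat.of R))) χ := ds_ext fun m => by
    rw [Category.assoc, dsVal_comp, ← dsVal_bcTS, Category.assoc, split_inv_hom, Category.comp_id, dsVal_chPt,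
      dsVal_chPt]
    rfl
  rw [← h, Category.assoc, split_hom_inv, Category.comp_id]

end Fibre

end Groth.Agent.SplitBase30
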