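import Groth.Agent.SplitBase30.Fibre
import Groth.Agent.SplitBase30.Local
import Groth.Agent.SplitBase30.Reductive
import Groth.Agent.RootStruct69.SplitScheme
import Groth.Agent.MaxTorusLib.MaxBC

/-!
# The roots near a point of the base
-/

set_option autoImplicit false
set_option linter.style.haveILetI false
set_option synthInstance.maxHeartbeats 100000

universe u

open CategoryTheory CategoryTheory.Limits MonoidalCategory CartesianMonoidalCategory AlgebraicGeometry WithConv
open TensorProduct
open scoped MonObj AddMonoidAlgebra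

namespace Groth.Agent.SplitBase30

open BigCell29

variable {R : Type u} [CommRing R] {G T : Over (Spec (CommRingCat.of R))} [GrpObj G] [GrpObj T]
  {M : Type} [AddCommGroup M] [Module.Free ℤ M] [Module.Finite ℤ M]
  {A : Type u} [CommRing A] [HopfAlgebra R A] (Md : Model (𝟙 (Spec (CommRingCat.of R))) G A)
  (hG : Red.IsReductive G) (i : T ⟶ G) [IsMonHom i] [Mono i] (hi : Red.IsMaximalTorus i)
  (split : Grp.mk T ≅ Grp.mk (Red.DS (Spec (CommRingCat.of R)) M))

omit [IsMonHom i] [Mono i] in
include hG in
/-- A geometric point at a given point of the base, with a reductive fibre. -/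
theorem exists_geom (p : PrimeSpectrum R) :
    ∃ (k : Type u) (_ : Field k) (_ : IsAlgClosed k) (_ : Algebra R k),
      RingHom.ker (algebraMap R k) = p.asIdeal ∧ Red.IsReductiveOver k (Red.bc (kMap R k) G) := by
  let s : Spec (CommRingCat.of R) := p
  let k := AlgebraicClosure ((Spec (CommRingCat.of R)).residueField s)
  obtain ⟨α, hα⟩ := Spec.map_surjective (Red.geomPt s)
  let : Algebra R k := α.hom.toAlgebra
  refine ⟨k, inferInstance, inferInstance, inferInstance, ?_, ?_⟩
  · have h : (Red.geomPt s).base ⟨⊥, Ideal.isPrime_bot⟩ = s := Scheme.fromSpecResidueField_apply s _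
    rw [← hα] at h
    rw [RingHom.ker_eq_comap_bot]
    exact congrArg PrimeSpectrum.asIdeal h
  · obtain ⟨e⟩ := GrpSchLib.MultTypeBC.bc_congr (show Red.geomPt s = kMap R k from hα.symm) G
    exact isReductiveOver_of_iso e (hG.2.2 s)

variable {k : Type u} [Field k] [IsAlgClosed k] [Algebra R k]

include Md hG hi in
/-- The root datum, reflections and weights of a geometric fibre. -/
theorem exists_fibre_data (hk : Red.IsReductiveOver k (Red.bc (kMap R k) G)) :
    ∃ (idx : Type) (_ : Fintype idx) (P : RootPairing idx ℤ M (Module.Dual ℤ M)),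
      P.toLinearMap = Module.Dual.eval ℤ M ∧ (∀ j, P.root j ≠ 0) ∧ P.IsReduced ∧
      topologicalKrullDim ↥(Red.bc (kMap R k) G).left =
        ((Module.finrank ℤ M + Fintype.card idx : ℕ) : WithBot ℕ∞) ∧
      (∀ a, ∃ n : 𝟙_ (Over (Spec (CommRingCat.of k))) ⟶ Red.bc (kMap R k) G,
        ∀ (X : Over (Spec (CommRingCat.of k))) (t : X ⟶ Red.bc (kMap R k) T),
        (toUnit X ≫ n) * (t ≫ (Over.pullback (kMap R k)).map i) * (toUnit X ≫ n)⁻¹ =
          t ≫ (bcTS split (kMap R k)).hom.hom.hom ≫ Red.DSmap _ (P.reflection a).toLinearMap.toAddMonoidHom ≫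
            (bcTS split (kMap R k)).inv.hom.hom ≫ (Over.pullback (kMap R k)).map i) ∧
      (∀ m, m ≠ 0 → m ∉ Set.range P.root → ∀ d : A →ₗ[R] k, IsDer d → ∀ a,
        d ((splitTorus i split Md).coact.p m a) = 0) ∧
      ∀ j, ∃ dα : A →ₗ[R] k, IsDer dα ∧ (∃ a, dα ((splitTorus i split Md).coact.p (P.root j) a) ≠ 0) ∧
        ∀ δ : A →ₗ[R] k, IsDer δ → ∃ c, ∀ a, δ ((splitTorus i split Md).coact.p (P.root j) a) =
          c * dα ((splitTorus i split Md).coact.p (P.root j) a) := by
  haveI := hG.1
  haveI := hG.2.1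
  have hmax := MaxTorusLib.isMaximalTorus_bc (kMap R k) hi
  obtain ⟨idx, _, P, u, hP, hu, hr, hd⟩ :=
    RootStruct69.SplitScheme.exists_splitting hk _ hmax (bcTS split (kMap R k))
  let D : Red.SplitRed (Red.bc (kMap R k) G) :=
    { T := Red.bc (kMap R k) T, i := (Over.pullback (kMap R k)).map i, M := M, idx := idx, P := P, pairing_eq := hP
      u := u, reductive := RootStruct69.SplitScheme.isReductive_of_isReductiveOver hk, maximalTorus := hmax
      split := bcTS split (kMap R k), rootHom := hu, refl := hr, dim_fibre := hd }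
  obtain ⟨F, hT, hroot⟩ := exists_frame Md hG.2.1 i split D (AddEquiv.refl M) fun B _ _ χ => rfl
  have hne : ∀ j, P.root j ≠ 0 := fun j => D.P.ne_zero j
  obtain ⟨h1, h2⟩ := derivations_of_frame F hT
  have hroot' : ∀ j, F.root j = P.root j := hroot
  have hrange : Set.range F.root = Set.range P.root := congrArg Set.range (funext hroot')
  refine ⟨idx, inferInstance, P, hP, hne, RedRk29.isReduced (D := D), ?_, hr, fun m hm hmr => h1 m hm (hrange ▸ hmr),
    fun j => hroot' j ▸ h2 j (hroot' j ▸ hne j)⟩
  have s : Spec (CommRingCat.of k) := Classical.arbitrary _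
  haveI := MaxTorusLib.isIso_geomPt s
  rw [← hd s]
  exact ((Scheme.homeoOfIso (asIso (pullback.fst (Red.bc (kMap R k) G).hom (Red.geomPt s)))).isHomeomorph.topologicalKrullDim_eq).symm

omit [IsAlgClosed k] [Module.Free ℤ M] [Module.Finite ℤ M] in
/-- At every geometric point where the torus is good the weights are the roots. -/
theorem root_mem_of_good {idx idx' : Type} {root : idx → M} {root' : idx' → M} {T₀ : SplitTorus R A M}
    {R' : Type u} [CommRing R'] [Algebra R R'] [Algebra R' k] [IsScalarTower R R' k]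
    (hgood : Good (bcTorus R' T₀) root) (h0 : ∀ j, root j ≠ 0) (h0' : ∀ j, root' j ≠ 0)
    (hbad : ∀ m, m ≠ 0 → m ∉ Set.range root' → ∀ d : A →ₗ[R] k, IsDer d → ∀ a, d (T₀.coact.p m a) = 0)
    (hline : ∀ j, ∃ dα : A →ₗ[R] k, IsDer dα ∧ ∃ a, dα (T₀.coact.p (root' j) a) ≠ 0) :
    Set.range root = Set.range root' := by
  classical
  refine Set.Subset.antisymm ?_ ?_
  · rintro _ ⟨j, rfl⟩
    by_contra hj
    obtain ⟨a₀, -, hpa₀, d, hd, hdp, hda, -⟩ := hgood.line j
    let δ : A →ₗ[R] k :=
      ((Algebra.linearMap R' k) ∘ₗ d).restrictScalars R ∘ₗ Algebra.TensorProduct.includeRight.toLinearMap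
    have hδ : IsDer δ := fun a b => by
      show algebraMap R' k (d ((1 : R') ⊗ₜ[R] (a * b))) = _
      rw [show (1 : R') ⊗ₜ[R] (a * b) = ((1 : R') ⊗ₜ[R] a) * ((1 : R') ⊗ₜ[R] b) by simp, hd, counit_one_tmul,
        counit_one_tmul]
      simp [δ, IsScalarTower.algebraMap_apply R R' k]
    have hzero : ∀ x : R' ⊗[R] A, algebraMap R' k (d ((bcTorus R' T₀).coact.p (root j) x)) = 0 := fun x => by
      induction x using TensorProduct.induction_on with
      | zero => simp
      | add x y hx hy => simp [map_add, hx, hy]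
      | tmul s a =>
        rw [show s ⊗ₜ[R] a = s • (1 : R') ⊗ₜ[R] a by rw [TensorProduct.smul_tmul', smul_eq_mul, mul_one], map_smul,
          map_smul, smul_eq_mul, map_mul, bcTorus_p,
          show algebraMap R' k (d ((1 : R') ⊗ₜ[R] T₀.coact.p (root j) a)) = δ (T₀.coact.p (root j) a) from rfl,
          hbad (root j) (h0 j) hj δ hδ a, mul_zero]
    have := hzero a₀
    rw [hpa₀, hda, map_one] at this
    exact one_ne_zero this
  · rintro _ ⟨j, rfl⟩
    by_contra hj
    obtain ⟨dα, hdα, a, ha⟩ := hline j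
    refine ha ?_
    have h := hgood.bad (root' j) (h0' j) hj ((1 : R') ⊗ₜ[R] a)
    rw [bcTorus_p] at h
    let L : R' ⊗[R] A →ₗ[R'] k := LinearMap.liftBaseChange R' dα
    have hL : IsDer L := fun x y => by
      induction x using TensorProduct.induction_on with
      | zero => simp
      | add x x' hx hx' => rw [add_mul, map_add, hx, hx']; simp only [map_add]; ring
      | tmul s a =>
        induction y using TensorProduct.induction_on with
        | zero => simp
        | add y y' hy hy' => rw [mul_add, map_add, hy, hy']; simp only [map_add]; ring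
        | tmul t b =>
          rw [Algebra.TensorProduct.tmul_mul_tmul]
          simp only [L, LinearMap.liftBaseChange_tmul, TensorProduct.counit_tmul, CommSemiring.counit_apply,
            Algebra.smul_def, hdα a b, map_mul, IsScalarTower.algebraMap_apply R R' k]
          ring
    have := hL.eq_zero_of_sq h
    simpa [L] using this

include Md hG hi in
/-- **The roots near a point of the base.** -/
theorem exists_roots_nhd (p : PrimeSpectrum R) :
    ∃ (idx : Type) (_ : Fintype idx) (P : RootPairing idx ℤ M (Module.Dual ℤ M)) (r : R) (k : Type u) (_ : Field k)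
      (_ : Algebra R k),
      P.toLinearMap = Module.Dual.eval ℤ M ∧ (∀ j, P.root j ≠ 0) ∧ P.IsReduced ∧ r ∉ p.asIdeal ∧
      RingHom.ker (algebraMap R k) = p.asIdeal ∧
      (∀ a, ∃ n : 𝟙_ (Over (Spec (CommRingCat.of k))) ⟶ Red.bc (kMap R k) G,
        ∀ (X : Over (Spec (CommRingCat.of k))) (t : X ⟶ Red.bc (kMap R k) T),
        (toUnit X ≫ n) * (t ≫ (Over.pullback (kMap R k)).map i) * (toUnit X ≫ n)⁻¹ =
          t ≫ (bcTS split (kMap R k)).hom.hom.hom ≫ Red.DSmap _ (P.reflection a).toLinearMap.toAddMonoidHom ≫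
            (bcTS split (kMap R k)).inv.hom.hom ≫ (Over.pullback (kMap R k)).map i) ∧
      ∀ (R' : Type u) [CommRing R'] [Algebra R R'], IsUnit (algebraMap R R' r) →
        Good (bcTorus R' (splitTorus i split Md)) P.root := by
  haveI := hG.1
  haveI := hG.2.1
  haveI := Md.smooth hG.2.1
  haveI : Algebra.FinitePresentation R A := Algebra.Smooth.finitePresentation
  obtain ⟨k, _, _, _, hker, hk⟩ := exists_geom hG p
  obtain ⟨idx, _, P, hP, hne, hred, -, hr, hbad, hline⟩ := exists_fibre_data Md hG i hi split hk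
  obtain ⟨r, hrp, hgood⟩ := exists_good (splitTorus i split Md) P.root hne p.isPrime hker hbad hline
  exact ⟨idx, inferInstance, P, r, k, inferInstance, inferInstance, hP, hne, hred, hrp, hker, hr, hgood⟩

include Md hG hi in
/-- The dimension of the geometric fibres where the torus is good. -/
theorem dim_fibre_of_good {R' : Type u} [CommRing R'] [Algebra R R'] [Etale (kMap R R')] {idx : Type} [Fintype idx]
    (root : idx ↪ M) (h0 : ∀ j, root j ≠ 0) (hgood : Good (bcTorus R' (splitTorus i split Md)) root)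
    (q : Spec (CommRingCat.of R')) :
    topologicalKrullDim ↥(Red.geomFibre q (Red.bc (kMap R R') G)).left =
      ((Module.finrank ℤ M + Fintype.card idx : ℕ) : WithBot ℕ∞) := by
  classical
  let k := AlgebraicClosure ((Spec (CommRingCat.of R')).residueField q)
  obtain ⟨α, hα⟩ := Spec.map_surjective (Red.geomPt q)
  let : Algebra R' k := α.hom.toAlgebra
  let : Algebra R k := ((algebraMap R' k).comp (algebraMap R R')).toAlgebra
  haveI : IsScalarTower R R' k := .of_algebraMap_eq fun _ => rfl
  have hcomp : Red.geomPt q ≫ kMap R R' = kMap R k := by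
    rw [show Red.geomPt q = kMap R' k from hα.symm, kMap, kMap, kMap, ← Spec.map_comp, ← CommRingCat.ofHom_comp,
      ← IsScalarTower.algebraMap_eq]
  obtain ⟨e1⟩ := GrpSchLib.MultTypeBC.bc_bc (Red.geomPt q) (kMap R R') G
  obtain ⟨e2⟩ := GrpSchLib.MultTypeBC.bc_congr hcomp G
  let E := e1 ≪≫ e2
  have hk : Red.IsReductiveOver k (Red.bc (kMap R k) G) :=
    isReductiveOver_of_iso E ((isReductive_bc (kMap R R') hG).2.2 q)
  obtain ⟨idx', _, P', -, hne', -, hdim, -, hbad, hline⟩ := exists_fibre_data Md hG i hi split hk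
  have hrange := root_mem_of_good hgood h0 hne' hbad fun j => by
    obtain ⟨d, h1, h2, -⟩ := hline j
    exact ⟨d, h1, h2⟩
  have hcard : Fintype.card idx = Fintype.card idx' :=
    Fintype.card_congr ((Equiv.ofInjective root root.injective).trans
      ((Equiv.setCongr hrange).trans (Equiv.ofInjective P'.root P'.root.injective).symm))
  rw [hcard, ← hdim]
  exact (Scheme.homeoOfIso (((Grp.forget _) ⋙ Over.forget _).mapIso E)).isHomeomorph.topologicalKrullDim_eq

end Groth.Agent.SplitBase30
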